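import Mathlib
import Cfsg.Agent.S0126
import Cfsg.Agent.Lib.PGroup.ConjAbZ

/-!
# `p`-groups with constant stabiliser orders on an elementary abelian `q`-group (S1160)
-/

set_option autoImplicit false

namespace Cfsg.Agent.Lib.GS1

open Subgroup

theorem card_lt_of_lt_subgroup {Γ : Type*} [Group Γ] [Finite Γ] {A B : Subgroup Γ} (h : A < B) :
    Nat.card A < Nat.card B :=
  lt_of_le_of_ne (Subgroup.card_le_of_le h.le)
    (fun e => h.ne (Subgroup.eq_of_le_of_card_ge h.le e.ge))

section ConstStab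

variable {P E : Type*} [Group P] [AddCommGroup E] [DistribMulAction P E]

/-- The norm `∑_{j<p} x^j` acting on `E`. -/
def tauHom (p : ℕ) (x : P) : E →+ E :=
  ∑ j ∈ Finset.range p, DistribMulAction.toAddMonoidHom E (x ^ j)

theorem tauHom_apply (p : ℕ) (x : P) (v : E) : tauHom p x v = ∑ j ∈ Finset.range p, x ^ j • v := by
  simp [tauHom, AddMonoidHom.finset_sum_apply]

theorem smul_tauHom_of_commute (p : ℕ) (x g : P) (h : g * x = x * g) (v : E) :
    g • tauHom p x v = tauHom p x (g • v) := by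
  rw [tauHom_apply, tauHom_apply, Finset.smul_sum]
  refine Finset.sum_congr rfl fun j _ => ?_
  rw [← mul_smul, ← mul_smul, (show Commute g (x ^ j) from (show Commute g x from h).pow_right j).eq]

theorem smul_tauHom_conj (p : ℕ) (x g : P) (v : E) :
    g • tauHom p x v = tauHom p (g * x * g⁻¹) (g • v) := by
  rw [tauHom_apply, tauHom_apply, Finset.smul_sum]
  refine Finset.sum_congr rfl fun j _ => ?_
  rw [conj_pow, ← mul_smul, ← mul_smul]
  simp

theorem smul_tauHom_self {p : ℕ} {x : P} (h : x ^ p = 1) (v : E) : x • tauHom p x v = tauHom p x v := by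
  rw [tauHom_apply, Finset.smul_sum]
  have h1 := Finset.sum_range_succ (fun j => x ^ j • v) p
  have h2 := Finset.sum_range_succ' (fun j => x ^ j • v) p
  rw [h1] at h2
  simp only [h, one_smul, pow_zero] at h2
  have h3 : ∑ j ∈ Finset.range p, x • x ^ j • v = ∑ j ∈ Finset.range p, x ^ (j + 1) • v := by
    refine Finset.sum_congr rfl fun j _ => ?_
    rw [← mul_smul, pow_succ']
  rw [h3]
  exact (add_right_cancel h2).symm

theorem pow_smul_of_fixed {x : P} {v : E} (h : x • v = v) (j : ℕ) : x ^ j • v = v := by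
  induction j with
  | zero => simp
  | succ n ih => rw [pow_succ, mul_smul, h, ih]

theorem tauHom_of_fixed {p : ℕ} {x : P} {v : E} (h : x • v = v) : tauHom p x v = p • v := by
  rw [tauHom_apply, Finset.sum_congr rfl (fun j _ => pow_smul_of_fixed h j)]
  simp

theorem tauHom_comm (p : ℕ) {x z : P} (h : x * z = z * x) (w : E) :
    tauHom p x (tauHom p z w) = tauHom p z (tauHom p x w) := by
  simp only [tauHom_apply, Finset.smul_sum]
  rw [Finset.sum_comm]
  refine Finset.sum_congr rfl fun i _ => Finset.sum_congr rfl fun j _ => ?_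
  rw [← mul_smul, ← mul_smul, ((show Commute x z from h).pow_pow j i).eq]

theorem tauHom_pow_eq_zero {p : ℕ} (hp : p.Prime) (hinj : ∀ v : E, p • v = 0 → v = 0) {x : P}
    (hx : x ^ p = 1) {k : ℕ} (hk : k.Coprime p) {w : E} (hw : tauHom p x w = 0) :
    tauHom p (x ^ k) w = 0 := by
  obtain ⟨m, -, hm⟩ := Nat.exists_mul_mod_eq_one_of_coprime hk hp.one_lt
  have hxk : x = (x ^ k) ^ m := by
    rw [← pow_mul, pow_eq_pow_mod _ hx, hm, pow_one]
  have hz : (x ^ k) ^ p = 1 := by
    rw [← pow_mul, mul_comm, pow_mul, hx, one_pow]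
  have h1 := smul_tauHom_self hz w
  have h2 : x • tauHom p (x ^ k) w = tauHom p (x ^ k) w := by
    have h5 := pow_smul_of_fixed h1 m
    rwa [← hxk] at h5
  have h3 := tauHom_of_fixed (p := p) h2
  rw [tauHom_comm p (show x * x ^ k = x ^ k * x from ((Commute.refl x).pow_right k).eq), hw, map_zero] at h3
  exact hinj _ h3.symm

/-- The "component" predicate: `w` is fixed by `y`, and killed by the norm of everything in `B`
outside `⟨y⟩`. -/
def IsComp (p : ℕ) (B : Subgroup P) (y : P) (w : E) : Prop :=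
  y • w = w ∧ ∀ z ∈ B, z ∉ zpowers y → tauHom p z w = 0

theorem IsComp.conj {p : ℕ} {B : Subgroup P} [hB : B.Normal] {y : P} {w : E} (h : IsComp p B y w) (g : P) :
    IsComp p B (g * y * g⁻¹) (g • w) := by
  constructor
  · rw [← mul_smul]
    simp [mul_smul, h.1]
  · intro z hz hz'
    have hz1 : g⁻¹ * z * g ∈ B := by
      have := hB.conj_mem z hz g⁻¹
      simpa using this
    have hz2 : g⁻¹ * z * g ∉ zpowers y := by
      intro hc
      obtain ⟨n, hn⟩ := hc
      apply hz'
      refine ⟨n, ?_⟩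
      show (g * y * g⁻¹) ^ n = z
      rw [conj_zpow]
      have hn' : y ^ n = g⁻¹ * z * g := hn
      rw [hn']
      group
    have h3 := smul_tauHom_conj p (g⁻¹ * z * g) g w
    rw [h.2 _ hz1 hz2, smul_zero] at h3
    have h4 : g * (g⁻¹ * z * g) * g⁻¹ = z := by group
    rw [h4] at h3
    exact h3.symm

theorem fixed_of_mem_zpowers {y z : P} {w : E} (hw : y • w = w) (hz : z ∈ zpowers y) : z • w = w := by
  have : zpowers y ≤ MulAction.stabilizer P w := by
    rw [Subgroup.zpowers_le]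
    exact hw
  exact this hz

theorem IsComp.tau_mem {p : ℕ} {B : Subgroup P} {y z : P} {w : E} (h : IsComp p B y w)
    (hz : z ∈ zpowers y) : tauHom p z w = p • w :=
  tauHom_of_fixed (fixed_of_mem_zpowers h.1 hz)

/-- An elementary abelian group of order `p²` is `⟨y⟩⟨x⟩`. -/
theorem exists_pow_mul_pow {p : ℕ} [hp : Fact p.Prime] [Finite P] {B : Subgroup P}
    (hBc : ∀ a ∈ B, ∀ b ∈ B, a * b = b * a) (hBe : ∀ a ∈ B, a ^ p = 1) (hB2 : Nat.card B = p ^ 2)
    {y x : P} (hy : y ∈ B) (hy1 : y ≠ 1) (hx : x ∈ B) (hxy : x ∉ zpowers y) {z : P} (hz : z ∈ B) :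
    ∃ i j : ℕ, z = y ^ i * x ^ j := by
  have hpp := hp.out
  have hcomm : y * x = x * y := hBc y hy x hx
  have hcomm' : Commute y x := hcomm
  let T : Subgroup P :=
    { carrier := {z | ∃ i j : ℕ, z = y ^ i * x ^ j}
      mul_mem' := by
        rintro _ _ ⟨i, j, rfl⟩ ⟨k, l, rfl⟩
        refine ⟨i + k, j + l, ?_⟩
        have : x ^ j * y ^ k = y ^ k * x ^ j := ((hcomm'.pow_pow k j).eq).symm
        rw [pow_add, pow_add]
        calc y ^ i * x ^ j * (y ^ k * x ^ l) = y ^ i * (x ^ j * y ^ k) * x ^ l := by group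
          _ = y ^ i * (y ^ k * x ^ j) * x ^ l := by rw [this]
          _ = _ := by group
      one_mem' := ⟨0, 0, by simp⟩
      inv_mem' := by
        rintro _ ⟨i, j, rfl⟩
        refine ⟨(p - 1) * i, (p - 1) * j, ?_⟩
        have hy' : (y ^ ((p - 1) * i)) * y ^ i = 1 := by
          rw [← pow_add, show (p - 1) * i + i = p * i by
            have := hpp.one_lt
            calc (p - 1) * i + i = (p - 1 + 1) * i := by ring
              _ = p * i := by rw [Nat.sub_add_cancel this.le], pow_mul, hBe y hy, one_pow]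
        have hx' : (x ^ ((p - 1) * j)) * x ^ j = 1 := by
          rw [← pow_add, show (p - 1) * j + j = p * j by
            have := hpp.one_lt
            calc (p - 1) * j + j = (p - 1 + 1) * j := by ring
              _ = p * j := by rw [Nat.sub_add_cancel this.le], pow_mul, hBe x hx, one_pow]
        rw [mul_inv_rev, inv_eq_of_mul_eq_one_left hx', inv_eq_of_mul_eq_one_left hy']
        exact ((hcomm'.pow_pow _ _).eq).symm }
  have hTB : T ≤ B := by
    rintro _ ⟨i, j, rfl⟩
    exact B.mul_mem (B.pow_mem hy i) (B.pow_mem hx j)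
  have hyT : y ∈ T := ⟨1, 0, by simp⟩
  have hxT : x ∈ T := ⟨0, 1, by simp⟩
  have hlt : zpowers y < T := by
    refine lt_of_le_of_ne ((Subgroup.zpowers_le).mpr hyT) ?_
    intro h
    exact hxy (h ▸ hxT)
  have hcardy : Nat.card (zpowers y) = p := by
    rw [Nat.card_zpowers, orderOf_eq_prime (hBe y hy) hy1]
  have hT1 : p < Nat.card T := by
    rw [← hcardy]
    exact card_lt_of_lt_subgroup hlt
  have hT2 : Nat.card T ∣ p ^ 2 := by
    rw [← hB2]
    exact Subgroup.card_dvd_of_le hTB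
  obtain ⟨n, hn, hn'⟩ := (Nat.dvd_prime_pow hpp).mp hT2
  have hn2 : n = 2 := by
    have hn3 : ¬ n ≤ 1 := by
      intro hle
      have h5 := Nat.pow_le_pow_right hpp.pos hle
      rw [pow_one, ← hn'] at h5
      omega
    omega
  have hTeq : T = B := by
    refine Subgroup.eq_of_le_of_card_ge hTB ?_
    rw [hn', hn2, hB2]
  rw [← hTeq] at hz
  exact hz

theorem mem_zpowers_of_mem_zpowers_of_prime {p : ℕ} (hp : p.Prime) {y x : P} (hy1 : y ≠ 1) (hx : x ^ p = 1) (h : y ∈ zpowers x)
    [Finite P] : x ∈ zpowers y := by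
  have hy : y ^ p = 1 := by
    obtain ⟨n, rfl⟩ := h
    show (x ^ n) ^ p = 1
    rw [← zpow_natCast, ← zpow_mul, mul_comm, zpow_mul, zpow_natCast, hx, one_zpow]
  have hx1 : x ≠ 1 := by
    rintro rfl
    simp at h
    exact hy1 h
  have h1 : zpowers y ≤ zpowers x := (Subgroup.zpowers_le).mpr h
  have h2 : Nat.card (zpowers y) = Nat.card (zpowers x) := by
    haveI : Fact p.Prime := ⟨hp⟩
    rw [Nat.card_zpowers, Nat.card_zpowers, orderOf_eq_prime hy hy1, orderOf_eq_prime hx hx1]
  have h3 := Subgroup.eq_of_le_of_card_ge h1 h2.ge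
  rw [h3]
  exact Subgroup.mem_zpowers x

theorem isComp_of_tau {p : ℕ} [hp : Fact p.Prime] [Finite P] {B : Subgroup P}
    (hinj : ∀ v : E, p • v = 0 → v = 0)
    (hBc : ∀ a ∈ B, ∀ b ∈ B, a * b = b * a) (hBe : ∀ a ∈ B, a ^ p = 1) (hB2 : Nat.card B = p ^ 2)
    {y x : P} (hy : y ∈ B) (hy1 : y ≠ 1) (hx : x ∈ B) (hxy : x ∉ zpowers y) {w : E}
    (hw : y • w = w) (hw0 : tauHom p x w = 0) : IsComp p B y w := by
  refine ⟨hw, fun z hz hz' => ?_⟩
  obtain ⟨i, j, rfl⟩ := exists_pow_mul_pow hBc hBe hB2 hy hy1 hx hxy hz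
  have hj : j.Coprime p := by
    rw [Nat.coprime_comm, Nat.Prime.coprime_iff_not_dvd hp.out]
    rintro ⟨c, rfl⟩
    apply hz'
    have : x ^ (p * c) = 1 := by rw [pow_mul, hBe x hx, one_pow]
    rw [this, mul_one]
    exact Subgroup.npow_mem_zpowers _ _
  have h1 := tauHom_pow_eq_zero hp.out hinj (hBe x hx) hj hw0
  rw [tauHom_apply] at h1 ⊢
  rw [← h1]
  refine Finset.sum_congr rfl fun k _ => ?_
  have hcomm : Commute (y ^ i) (x ^ j) := Commute.pow_pow (hBc y hy x hx) i j
  have h5 : (y ^ i) ^ k • w = w := by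
    rw [← pow_mul]
    exact pow_smul_of_fixed hw _
  rw [hcomm.mul_pow, (hcomm.pow_pow k k).eq, mul_smul, h5]

theorem exists_comp {p : ℕ} [hp : Fact p.Prime] [Finite P] [FaithfulSMul P E] {B : Subgroup P}
    (hinj : ∀ v : E, p • v = 0 → v = 0)
    (hBc : ∀ a ∈ B, ∀ b ∈ B, a * b = b * a) (hBe : ∀ a ∈ B, a ^ p = 1) (hB2 : Nat.card B = p ^ 2)
    {x : P} (hx : x ∈ B) (hx1 : x ≠ 1) :
    ∃ y ∈ B, y ≠ 1 ∧ y ∉ zpowers x ∧ ∃ w : E, w ≠ 0 ∧ IsComp p B y w := by
  classical
  have hpp := hp.out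
  -- a vector moved by `x`
  obtain ⟨v, hv⟩ : ∃ v : E, x • v ≠ v := by
    by_contra hc
    push Not at hc
    exact hx1 (eq_of_smul_eq_smul (α := E) (fun v => by rw [hc v, one_smul]))
  obtain ⟨u, hu⟩ : ∃ u, u = p • v - tauHom p x v := ⟨_, rfl⟩
  have hxp := hBe x hx
  have hu0 : tauHom p x u = 0 := by
    rw [hu, map_sub, map_nsmul, tauHom_of_fixed (smul_tauHom_self hxp v), sub_self]
  have hune : u ≠ 0 := by
    intro h0
    rw [h0, eq_comm, sub_eq_zero] at hu
    apply hv
    have h1 := smul_tauHom_self hxp v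
    rw [← hu, smul_comm] at h1
    have h2 : p • (x • v - v) = 0 := by
      rw [smul_sub, h1, sub_self]
    exact sub_eq_zero.mp (hinj _ h2)
  -- an element of `B` outside `⟨x⟩`
  obtain ⟨b, hb, hbx⟩ : ∃ b ∈ B, b ∉ zpowers x := by
    by_contra hc
    push Not at hc
    have h1 : Nat.card B ≤ Nat.card (zpowers x) := Subgroup.card_le_of_le hc
    rw [hB2, Nat.card_zpowers, orderOf_eq_prime hxp hx1] at h1
    have := hpp.one_lt
    nlinarith
  have hsum : ∑ j ∈ Finset.range p, tauHom p (b * x ^ j) u = p • u := by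
    simp only [tauHom_apply]
    rw [Finset.sum_comm]
    have hterm : ∀ k ∈ Finset.range p, ∑ j ∈ Finset.range p, (b * x ^ j) ^ k • u =
        b ^ k • tauHom p (x ^ k) u := by
      intro k _
      rw [tauHom_apply, Finset.smul_sum]
      refine Finset.sum_congr rfl fun j _ => ?_
      have hc : Commute b (x ^ j) := Commute.pow_right (hBc b hb x hx) j
      rw [hc.mul_pow, mul_smul, ← pow_mul, ← pow_mul, mul_comm j k]
    rw [Finset.sum_congr rfl hterm]
    rw [Finset.sum_eq_single 0]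
    · simp [tauHom_of_fixed (p := p) (x := (1 : P)) (v := u) (by simp)]
    · intro k hk hk0
      have hk' : k.Coprime p := by
        rw [Nat.coprime_comm, Nat.Prime.coprime_iff_not_dvd hpp]
        intro hd
        have := Nat.le_of_dvd (Nat.pos_of_ne_zero hk0) hd
        have := Finset.mem_range.mp hk
        omega
      rw [tauHom_pow_eq_zero hpp hinj hxp hk' hu0, smul_zero]
    · intro h0
      exact absurd (Finset.mem_range.mpr hpp.pos) h0
  have hne : ∑ j ∈ Finset.range p, tauHom p (b * x ^ j) u ≠ 0 := by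
    rw [hsum]
    exact fun h => hune (hinj _ h)
  obtain ⟨j, -, hj⟩ := Finset.exists_ne_zero_of_sum_ne_zero hne
  have hyB : b * x ^ j ∈ B := B.mul_mem hb (B.pow_mem hx j)
  have hyx : b * x ^ j ∉ zpowers x := by
    intro hc
    apply hbx
    have h2 : x ^ j ∈ zpowers x := Subgroup.npow_mem_zpowers _ _
    have := (zpowers x).mul_mem hc ((zpowers x).inv_mem h2)
    simpa using this
  have hy1 : b * x ^ j ≠ 1 := by
    intro h
    rw [h] at hyx
    exact hyx (Subgroup.one_mem _)
  refine ⟨b * x ^ j, hyB, hy1, hyx, _, hj, ?_⟩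
  have hxy : x ∉ zpowers (b * x ^ j) := by
    intro hc
    exact hyx (mem_zpowers_of_mem_zpowers_of_prime hpp hx1 (hBe _ hyB) hc)
  refine isComp_of_tau hinj hBc hBe hB2 hyB hy1 hx hxy (smul_tauHom_self (hBe _ hyB) u) ?_
  rw [tauHom_comm p (hBc x hx _ hyB), hu0, map_zero]

/-- The main contradiction: a normal `p²`-subgroup gives a vector whose stabiliser is not of
maximal order. -/
theorem not_const_of_normal {p : ℕ} [hp : Fact p.Prime] [Finite P] [FaithfulSMul P E] (hp2 : p ≠ 2)
    (hP : IsPGroup p P) {B : Subgroup P} [hBn : B.Normal]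
    (hinj : ∀ v : E, p • v = 0 → v = 0)
    (hBc : ∀ a ∈ B, ∀ b ∈ B, a * b = b * a) (hBe : ∀ a ∈ B, a ^ p = 1) (hB2 : Nat.card B = p ^ 2)
    (hconst : ∀ a b : E, a ≠ 0 → b ≠ 0 →
      Nat.card (MulAction.stabilizer P a) = Nat.card (MulAction.stabilizer P b)) : False := by
  have hpp := hp.out
  obtain ⟨x₀, hx₀, hx₀1⟩ : ∃ x ∈ B, x ≠ 1 := by
    by_contra hc
    push Not at hc
    have : B = ⊥ := (Subgroup.eq_bot_iff_forall _).mpr hc
    rw [this, Subgroup.card_bot] at hB2
    have := Nat.one_lt_pow (n := 2) (by omega) hpp.one_lt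
    omega
  obtain ⟨y₁, hy₁, hy₁1, -, a₁, ha₁, hc₁⟩ := exists_comp (E := E) hinj hBc hBe hB2 hx₀ hx₀1
  obtain ⟨y₂, hy₂, hy₂1, hy₂₁, a₂, ha₂, hc₂⟩ := exists_comp (E := E) hinj hBc hBe hB2 hy₁ hy₁1
  have hy₁₂ : y₁ ∉ zpowers y₂ := fun hc =>
    hy₂₁ (mem_zpowers_of_mem_zpowers_of_prime hpp hy₁1 (hBe _ hy₂) hc)
  have hpa₁ : p • a₁ ≠ 0 := fun h => ha₁ (hinj _ h)
  have hpa₂ : p • a₂ ≠ 0 := fun h => ha₂ (hinj _ h)
  have inj2 : ∀ u v : E, p • u = p • v → u = v := by
    intro u v h
    have : p • (u - v) = 0 := by rw [smul_sub, h, sub_self]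
    exact sub_eq_zero.mp (hinj _ this)
  have h12 : tauHom p y₁ a₂ = 0 := hc₂.2 _ hy₁ hy₁₂
  have h21 : tauHom p y₂ a₁ = 0 := hc₁.2 _ hy₂ hy₂₁
  have h11 : tauHom p y₁ a₁ = p • a₁ := tauHom_of_fixed hc₁.1
  have h22 : tauHom p y₂ a₂ = p • a₂ := tauHom_of_fixed hc₂.1
  -- uniqueness of components
  have huniq : ∀ (y' y'' : P) (u v : E), y' ∈ B → y' ≠ 1 → IsComp p B y' u → IsComp p B y'' v → u + v = a₁ + a₂ →
      (u = a₁ ∧ v = a₂) ∨ (u = a₂ ∧ v = a₁) := by
    intro y' y'' u v hy' hy'1 hu hv huv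
    have e1 : tauHom p y₁ u + tauHom p y₁ v = p • a₁ := by
      rw [← map_add, huv, map_add, h11, h12, add_zero]
    have e2 : tauHom p y₂ u + tauHom p y₂ v = p • a₂ := by
      rw [← map_add, huv, map_add, h21, h22, zero_add]
    by_cases hA : y₁ ∈ zpowers y'
    · left
      have hC : y₂ ∉ zpowers y' := by
        intro hC
        have : y' ∈ zpowers y₁ := mem_zpowers_of_mem_zpowers_of_prime hpp hy₁1 (hBe _ hy') hA
        have h3 : zpowers y' ≤ zpowers y₁ := (Subgroup.zpowers_le).mpr this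
        exact hy₂₁ (h3 hC)
      rw [hu.2 _ hy₂ hC, zero_add] at e2
      have hC' : y₂ ∈ zpowers y'' := by
        by_contra hC'
        rw [hv.2 _ hy₂ hC'] at e2
        exact hpa₂ e2.symm
      rw [hv.tau_mem hC'] at e2
      have hva := inj2 _ _ e2
      rw [hva] at huv
      exact ⟨add_right_cancel huv, hva⟩
    · right
      rw [hu.2 _ hy₁ hA, zero_add] at e1
      have hA' : y₁ ∈ zpowers y'' := by
        by_contra hA'
        rw [hv.2 _ hy₁ hA'] at e1
        exact hpa₁ e1.symm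
      rw [hv.tau_mem hA'] at e1
      have hva := inj2 _ _ e1
      rw [hva, add_comm] at huv
      exact ⟨(add_left_cancel huv), hva⟩
  -- `P_a ≤ P_{a₁}` for `a = a₁ + a₂`
  have hne12 : a₁ ≠ a₂ := by
    intro h
    rw [h, h12] at h11
    exact hpa₂ h11.symm
  have hle : MulAction.stabilizer P (a₁ + a₂) ≤ MulAction.stabilizer P a₁ := by
    intro g hg
    rw [MulAction.mem_stabilizer_iff, smul_add] at hg
    rw [MulAction.mem_stabilizer_iff]
    have hg1 : g * y₁ * g⁻¹ ∈ B := hBn.conj_mem _ hy₁ g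
    have hg2 : g * y₁ * g⁻¹ ≠ 1 := by
      intro h
      apply hy₁1
      have : y₁ = g⁻¹ * (g * y₁ * g⁻¹) * g := by group
      rw [this, h]
      group
    rcases huniq _ _ _ _ hg1 hg2 (hc₁.conj g) (hc₂.conj g) hg with ⟨h, -⟩ | ⟨h, h'⟩
    · exact h
    · exfalso
      obtain ⟨n, hn⟩ := IsPGroup.iff_orderOf.mp hP g
      have hodd : Odd (orderOf g) := by
        rw [hn]
        exact (hpp.odd_of_ne_two hp2).pow
      obtain ⟨r, hr⟩ := hodd
      have hgg : (g * g) • a₁ = a₁ := by
        rw [mul_smul, h, h']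
      have hg3 : g = (g * g) ^ (r + 1) := by
        have h4 : g ^ (2 * r + 1) = 1 := by
          rw [← hr]
          exact pow_orderOf_eq_one g
        calc g = g ^ (2 * r + 1) * g := by rw [h4, one_mul]
          _ = (g * g) ^ (r + 1) := by
            rw [← pow_two, ← pow_mul, ← pow_succ]
            ring_nf
      have h5 : g • a₁ = a₁ := by
        conv_lhs => rw [hg3]
        exact pow_smul_of_fixed hgg _
      rw [h5] at h
      exact hne12 h
  have hstrict : MulAction.stabilizer P (a₁ + a₂) < MulAction.stabilizer P a₁ := by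
    refine lt_of_le_of_ne hle ?_
    intro h
    have h1 : y₁ ∈ MulAction.stabilizer P (a₁ + a₂) := by
      rw [h]
      exact hc₁.1
    rw [MulAction.mem_stabilizer_iff, smul_add, hc₁.1] at h1
    have h2 : y₁ • a₂ = a₂ := add_left_cancel h1
    rw [tauHom_of_fixed h2] at h12
    exact hpa₂ h12
  have hne0 : a₁ + a₂ ≠ 0 := by
    intro h
    have h3 := congrArg (tauHom p y₁) h
    rw [map_add, h11, h12, add_zero, map_zero] at h3
    exact hpa₁ h3
  have := hconst _ _ hne0 ha₁
  exact absurd this (card_lt_of_lt_subgroup hstrict).ne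

theorem trivial_of_fixed_ne_zero [Finite P] [FaithfulSMul P E] {b : E} (hb : b ≠ 0)
    (hbf : ∀ g : P, g • b = b)
    (hconst : ∀ a b : E, a ≠ 0 → b ≠ 0 →
      Nat.card (MulAction.stabilizer P a) = Nat.card (MulAction.stabilizer P b)) (g : P) : g = 1 := by
  have htop : MulAction.stabilizer P b = ⊤ := by
    ext g
    simp [hbf g]
  refine eq_of_smul_eq_smul (α := E) fun c => ?_
  rw [one_smul]
  by_cases hc : c = 0
  · rw [hc, smul_zero]
  have h1 := hconst c b hc hb
  rw [htop, Subgroup.card_top] at h1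
  have h2 : MulAction.stabilizer P c = ⊤ := Subgroup.eq_top_of_card_eq _ h1
  have h3 : g ∈ MulAction.stabilizer P c := by
    rw [h2]
    trivial
  exact h3

theorem const_stab_main {p q : ℕ} [hp : Fact p.Prime] [Finite P] [Finite E] [FaithfulSMul P E] (hp2 : p ≠ 2)
    (hP : IsPGroup p P) (hq : q.Prime) (hE : ∀ e : E, q • e = 0)
    (hconst : ∀ a b : E, a ≠ 0 → b ≠ 0 →
      Nat.card (MulAction.stabilizer P a) = Nat.card (MulAction.stabilizer P b)) :
    IsCyclic P ∧ ∀ g : P, g ≠ 1 → ∀ a : E, g • a = a → a = 0 := by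
  have hpp := hp.out
  have hcyc : IsCyclic P := by
    by_cases hqp : q = p
    · subst hqp
      -- `P` fixes a non-zero vector, so is trivial
      by_cases hEs : ∃ e : E, e ≠ 0
      · obtain ⟨e, he⟩ := hEs
        have hord : addOrderOf e = q := addOrderOf_eq_prime (hE e) he
        have hdvd : q ∣ Nat.card E := by
          rw [← hord]
          exact addOrderOf_dvd_natCard e
        have h0 : (0 : E) ∈ MulAction.fixedPoints P E := fun g => smul_zero g
        obtain ⟨b, hb, hb0⟩ := hP.exists_fixed_point_of_prime_dvd_card_of_fixed_point E hdvd h0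
        have htriv := trivial_of_fixed_ne_zero (fun h => hb0 h.symm) hb hconst
        haveI : Subsingleton P := ⟨fun x y => by rw [htriv x, htriv y]⟩
        exact isCyclic_of_subsingleton
      · push Not at hEs
        have htriv : ∀ g : P, g = 1 := fun g =>
          eq_of_smul_eq_smul (α := E) fun c => by rw [hEs c, smul_zero, smul_zero]
        haveI : Subsingleton P := ⟨fun x y => by rw [htriv x, htriv y]⟩
        exact isCyclic_of_subsingleton
    · by_contra hnc
      obtain ⟨B, hBn, hBe, hB2⟩ := Cfsg.Agent.S0126.result hp2 hP hnc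
      haveI := hBn
      have hcop : Nat.Coprime p q := (Nat.coprime_primes hpp hq).mpr (Ne.symm hqp)
      have hinj : ∀ v : E, p • v = 0 → v = 0 := by
        intro v hv
        have h1 := addOrderOf_dvd_of_nsmul_eq_zero hv
        have h2 := addOrderOf_dvd_of_nsmul_eq_zero (hE v)
        have h3 := Nat.dvd_gcd h1 h2
        rw [hcop.gcd_eq_one, Nat.dvd_one, AddMonoid.addOrderOf_eq_one_iff] at h3
        exact h3
      have hBc : ∀ a ∈ B, ∀ b ∈ B, a * b = b * a := by
        intro a ha b hb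
        exact congrArg Subtype.val (hBe.1.is_comm.comm (⟨a, ha⟩ : B) ⟨b, hb⟩)
      exact not_const_of_normal hp2 hP hinj hBc hBe.2 hB2 hconst
  refine ⟨hcyc, fun g hg a ha => ?_⟩
  by_contra ha0
  apply hg
  refine eq_of_smul_eq_smul (α := E) fun c => ?_
  rw [one_smul]
  by_cases hc : c = 0
  · rw [hc, smul_zero]
  have h1 := hconst a c ha0 hc
  have h2 : MulAction.stabilizer P a = MulAction.stabilizer P c := by
    haveI := hcyc
    exact Cfsg.Agent.Lib.PGroup.ConjAb.eq_of_card_eq_of_isCyclic _ _ h1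
  have h3 : g ∈ MulAction.stabilizer P c := by
    rw [← h2]
    exact ha
  exact h3

end ConstStab

end Cfsg.Agent.Lib.GS1
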