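import Mathlib
import Cfsg.Agent.Lib.Hall.Frobenius
import Cfsg.Agent.Lib.Hall.Frobenius2
import Cfsg.Agent.Lib.Hall.Frobenius3
import Cfsg.Agent.Lib.Hall.FrobSylow
import Cfsg.Agent.Lib.Hall.Carter
import Cfsg.Agent.Lib.FrobThm.Basic
import Cfsg.Agent.Lib.PLocal.FrobFixed
import Cfsg.Agent.Lib.Frobenius.Transport
import Cfsg.Agent.Lib.GS1.ZCoprime
import Cfsg.Agent.Lib.GS1.ConstStab
import Cfsg.Agent.S0042

/-!
# 2-Frobenius groups: structure facts
-/

set_option autoImplicit false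

namespace Cfsg.Agent.Lib.GS1

open Cfsg Subgroup Cfsg.Agent.Lib.Hall Cfsg.Agent.Lib.Core
open scoped Pointwise commutatorElement

section

variable {G : Type*} [Group G] [Finite G]

theorem frob_pack {N C : Subgroup G} (hC : IsFrobeniusComplement C)
    (hN : frobeniusKernel C = (N : Set G)) :
    N.Normal ∧ IsComplement' N C ∧ N ≠ ⊥ ∧ (∀ h ∈ C, h ≠ 1 → N ⊓ centralizer {h} = ⊥) ∧
      (Nat.card N).Coprime (Nat.card C) ∧ Group.IsNilpotent N := by
  obtain ⟨N', hN', hNn, hc⟩ := FrobThm.frobenius_theorem C hC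
  have h1 : N' = N := SetLike.coe_injective (hN'.trans hN)
  subst h1
  have hne : N' ≠ ⊥ := by
    intro h
    apply hC.2.1
    rw [h] at hc
    exact isComplement'_bot_left.mp hc
  have hfp : ∀ h ∈ C, h ≠ 1 → N' ⊓ centralizer {h} = ⊥ :=
    (frobenius_iff_fpf N' C hc hne hC.1).mp hC
  refine ⟨hNn, hc, hne, hfp, coprime_card_kernel hC hN', ?_⟩
  obtain ⟨N'', h3, -, h4⟩ := Cfsg.Agent.S0042.result C hC
  have h5 : N'' = N' := SetLike.coe_injective (h3.trans hN'.symm)
  exact h5 ▸ h4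

theorem frob_comm {N C : Subgroup G} (hC : IsFrobeniusComplement C)
    (hN : frobeniusKernel C = (N : Set G)) {x y : G} (hx : x ∉ N) (hy : y ∈ N)
    (hxy : x * y = y * x) : y = 1 := by
  by_contra hy1
  have h1 : y ∈ frobeniusKernel C := by rw [hN]; exact hy
  have h2 := centralizer_le_kernel hC h1 hy1 (c := x) (by
    rw [mem_centralizer_singleton_iff]; exact hxy)
  rw [hN] at h2
  exact hx h2

theorem exists_order_mul_of_nilpotent {T : Type*} [Group T] [Finite T] [Group.IsNilpotent T] {p q : ℕ}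
    (hp : p.Prime) (hq : q.Prime) (hpq : p ≠ q) (hpd : p ∣ Nat.card T) (hqd : q ∣ Nat.card T) :
    ∃ t : T, orderOf t = p * q := by
  haveI : Fact p.Prime := ⟨hp⟩
  haveI : Fact q.Prime := ⟨hq⟩
  obtain ⟨x, hx⟩ := exists_prime_orderOf_dvd_card' p hpd
  obtain ⟨y, hy⟩ := exists_prime_orderOf_dvd_card' q hqd
  have hxp : IsPGroup p (zpowers x) := by
    rw [IsPGroup.iff_card]; exact ⟨1, by rw [Nat.card_zpowers, hx, pow_one]⟩
  have hyq : IsPGroup q (zpowers y) := by
    rw [IsPGroup.iff_card]; exact ⟨1, by rw [Nat.card_zpowers, hy, pow_one]⟩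
  obtain ⟨P, hP⟩ := hxp.exists_le_sylow
  obtain ⟨Q, hQ⟩ := hyq.exists_le_sylow
  have hPn : (P : Subgroup T).Normal := inferInstance
  have hQn : (Q : Subgroup T).Normal := inferInstance
  have hdis : Disjoint (P : Subgroup T) Q :=
    IsPGroup.disjoint_of_ne p q hpq _ _ P.isPGroup' Q.isPGroup'
  have hc := Subgroup.commute_of_normal_of_disjoint _ _ hPn hQn hdis x y
    (hP (mem_zpowers x)) (hQ (mem_zpowers y))
  refine ⟨x * y, ?_⟩
  rw [hc.orderOf_mul_eq_mul_orderOf_of_coprime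
    (by rw [hx, hy]; exact (Nat.coprime_primes hp hq).mpr hpq), hx, hy]

theorem exists_order_of_cyclic_quot {K : Subgroup G} [K.Normal] [IsCyclic (G ⧸ K)] {n : ℕ}
    (hn : n ∣ Nat.card (G ⧸ K)) : ∃ g : G, orderOf g = n := by
  obtain ⟨g₀, hg₀⟩ := IsCyclic.exists_ofOrder_eq_natCard (α := G ⧸ K)
  obtain ⟨g, rfl⟩ := QuotientGroup.mk_surjective g₀
  have h1 : orderOf (g : G ⧸ K) ∣ orderOf g := orderOf_map_dvd (QuotientGroup.mk' K) g
  have h2 : n ∣ orderOf g := by
    rw [hg₀] at h1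
    exact hn.trans h1
  exact ⟨g ^ (orderOf g / n), orderOf_pow_orderOf_div (orderOf_pos g).ne' h2⟩

/-- A fixed vector for an element of prime order acting fpf on a complement. -/
theorem fixed_of_prime_action (V C' : Subgroup G) [hVn : V.Normal] (hVab : IsMulCommutative V) (hV1 : V ≠ ⊥)
    {y : G} {q : ℕ} (hq : q.Prime) (hy : orderOf y = q) (hyN : y ∈ normalizer (C' : Set G))
    (hfp : ∀ c ∈ C', c ≠ 1 → c * y = y * c → False) (hC1 : C' ≠ ⊥)
    (hcop : (Nat.card V).Coprime (Nat.card C'))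
    (hCV : ∀ c ∈ C', c ≠ 1 → ∀ v ∈ V, c * v = v * c → v = 1) (hqC : ¬ q ∣ Nat.card C') :
    ∃ v ∈ V, v ≠ 1 ∧ v * y = y * v := by
  classical
  have hY : zpowers y ≤ normalizer (C' : Set G) := by
    rw [zpowers_le]; exact hyN
  have hcardY : Nat.card (zpowers y) = q := by rw [Nat.card_zpowers, hy]
  have hcopq : (Nat.card C').Coprime (Nat.card (zpowers y)) := by
    rw [hcardY]
    exact ((Nat.Prime.coprime_iff_not_dvd hq).mpr hqC).symm
  have hinf : zpowers y ⊓ C' = ⊥ := disjoint_iff.mp (disjoint_of_coprime_natCard hcopq.symm)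
  have hcardF := card_sup_of_le_normalizer hY hinf
  obtain ⟨c₀, hc₀, hc₀1⟩ := (Subgroup.bot_or_exists_ne_one C').resolve_left hC1
  have hy1 : y ≠ 1 := by
    intro h
    rw [h, orderOf_one] at hy
    exact hq.one_lt.ne hy
  set F : Subgroup G := zpowers y ⊔ C' with hF
  have hC'F : C' ≤ F := le_sup_right
  have hYF : zpowers y ≤ F := le_sup_left
  let N₀ : Subgroup F := C'.subgroupOf F
  let A : Subgroup F := (zpowers y).subgroupOf F
  haveI hN₀n : N₀.Normal :=
    (normal_subgroupOf_iff_le_normalizer hC'F).mpr (sup_le hY le_normalizer)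
  have hcardN₀ : Nat.card N₀ = Nat.card C' := Nat.card_congr (subgroupOfEquivOfLe hC'F).toEquiv
  have hcardA : Nat.card A = Nat.card (zpowers y) :=
    Nat.card_congr (subgroupOfEquivOfLe hYF).toEquiv
  have hc : IsComplement' N₀ A := isComplement'_of_coprime (by
      rw [hcardN₀, hcardA, hcardF, mul_comm]) (by rw [hcardN₀, hcardA]; exact hcopq)
  have hN₀1 : N₀ ≠ ⊥ := by
    intro h
    have h1 : (⟨c₀, hC'F hc₀⟩ : F) ∈ N₀ := by
      change (⟨c₀, hC'F hc₀⟩ : F) ∈ C'.subgroupOf F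
      rw [mem_subgroupOf]; exact hc₀
    rw [h, mem_bot] at h1
    exact hc₀1 (congrArg Subtype.val h1)
  have hA1 : A ≠ ⊥ := by
    intro h
    have h1 : (⟨y, hYF (mem_zpowers y)⟩ : F) ∈ A := by
      change (⟨y, hYF (mem_zpowers y)⟩ : F) ∈ (zpowers y).subgroupOf F
      rw [mem_subgroupOf]; exact mem_zpowers y
    rw [h, mem_bot] at h1
    exact hy1 (congrArg Subtype.val h1)
  have hfpfA : ∀ h ∈ A, h ≠ 1 → N₀ ⊓ centralizer {h} = ⊥ := by
    rintro ⟨h₀, hh₀⟩ hA hh1
    rw [eq_bot_iff]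
    rintro ⟨c, hcF⟩ ⟨hc1, hc2⟩
    rw [mem_bot]
    have hcC : c ∈ C' := by
      have : (⟨c, hcF⟩ : F) ∈ C'.subgroupOf F := hc1
      rwa [mem_subgroupOf] at this
    have hh₀Y : h₀ ∈ zpowers y := by
      have : (⟨h₀, hh₀⟩ : F) ∈ (zpowers y).subgroupOf F := hA
      rwa [mem_subgroupOf] at this
    have hh₀1 : h₀ ≠ 1 := fun h => hh1 (Subtype.ext h)
    have hyq : y ^ q = 1 := by rw [← hy]; exact pow_orderOf_eq_one y
    have hyh : y ∈ zpowers h₀ := mem_zpowers_of_mem_zpowers_of_prime hq hh₀1 hyq hh₀Y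
    have hcomm : c * h₀ = h₀ * c := by
      have := (mem_centralizer_singleton_iff).mp hc2
      exact congrArg Subtype.val this
    have hcomm2 : Commute c y := by
      obtain ⟨n, hn⟩ := hyh
      rw [← hn]
      exact Commute.zpow_right hcomm n
    by_contra hne
    exact hfp c hcC (fun h => hne (Subtype.ext h)) hcomm2
  have hFr : IsFrobeniusComplement A := (frobenius_iff_fpf N₀ A hc hN₀1 hA1).mpr hfpfA
  have hFV : F ≤ normalizer (V : Set G) := by
    rw [Subgroup.normalizer_eq_top_iff.mpr hVn]; exact le_top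
  have hcop' : (Nat.card V).Coprime (Nat.card (frobeniusKernel A)) := by
    rw [card_frobeniusKernel hFr, hc.index_eq_card, hcardN₀]
    exact hcop
  have hCK : V ⊓ centralizer (Subtype.val '' frobeniusKernel A : Set G) = ⊥ := by
    rw [eq_bot_iff]
    rintro v ⟨hvV, hvc⟩
    rw [mem_bot]
    have hk : (⟨c₀, hC'F hc₀⟩ : F) ∈ frobeniusKernel A := by
      right
      intro g hg
      rw [mem_conj_smul_iff] at hg
      have h2 : g⁻¹ * (⟨c₀, hC'F hc₀⟩ : F) * g ∈ N₀ := by
        have h3 : (⟨c₀, hC'F hc₀⟩ : F) ∈ N₀ := by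
          change (⟨c₀, hC'F hc₀⟩ : F) ∈ C'.subgroupOf F
          rw [mem_subgroupOf]; exact hc₀
        have h4 := hN₀n.conj_mem _ h3 g⁻¹
        simpa using h4
      have h5 := Subgroup.disjoint_def.mp hc.disjoint h2 hg
      have h6 : (⟨c₀, hC'F hc₀⟩ : F) = 1 := by
        have h7 : (⟨c₀, hC'F hc₀⟩ : F) = g * (g⁻¹ * (⟨c₀, hC'F hc₀⟩ : F) * g) * g⁻¹ := by group
        rw [h7, h5]; group
      exact hc₀1 (congrArg Subtype.val h6)
    have h1 := mem_centralizer_iff.mp hvc c₀ ⟨_, hk, rfl⟩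
    exact hCV c₀ hc₀ hc₀1 v hvV h1
  have hres := PLocal.frobenius_fixed V F hVab hV1 hFV A hFr hcop' hCK
  obtain ⟨v, hv, hv1⟩ := (Subgroup.bot_or_exists_ne_one _).resolve_left hres
  refine ⟨v, hv.1, hv1, ?_⟩
  have hyA : y ∈ ((A.map F.subtype : Subgroup G) : Set G) := by
    refine ⟨⟨y, hYF (mem_zpowers y)⟩, ?_, rfl⟩
    change (⟨y, hYF (mem_zpowers y)⟩ : F) ∈ (zpowers y).subgroupOf F
    rw [mem_subgroupOf]; exact mem_zpowers y
  exact (mem_centralizer_iff.mp hv.2 y hyA).symm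

variable {H K : Subgroup G} [H.Normal] [K.Normal]

theorem comm_quot (hle : H ≤ K) {D : Subgroup (G ⧸ H)} (hD : IsFrobeniusComplement D)
    (hDk : frobeniusKernel D = (K.map (QuotientGroup.mk' H) : Set (G ⧸ H))) {x y : G} (hx : x ∉ K)
    (hy : y ∈ K) (hxy : x * y = y * x) : y ∈ H := by
  have h1 : (x : G ⧸ H) ∉ K.map (QuotientGroup.mk' H) := by
    rintro ⟨k, hk, hkx⟩
    have h2 : k⁻¹ * x ∈ H := QuotientGroup.eq.mp hkx
    have h3 := K.mul_mem hk (hle h2)
    rw [mul_inv_cancel_left] at h3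
    exact hx h3
  have h2 : (y : G ⧸ H) ∈ K.map (QuotientGroup.mk' H) := ⟨y, hy, rfl⟩
  have h3 := frob_comm hD hDk h1 h2 (by
    rw [← QuotientGroup.mk_mul, ← QuotientGroup.mk_mul, hxy])
  exact (QuotientGroup.eq_one_iff y).mp h3

theorem comm_sub (hle : H ≤ K) {C : Subgroup K} (hC : IsFrobeniusComplement C)
    (hCk : frobeniusKernel C = (H.subgroupOf K : Set K)) {x y : G} (hxK : x ∈ K) (hxH : x ∉ H)
    (hy : y ∈ H) (hxy : x * y = y * x) : y = 1 := by
  have h1 := frob_comm hC hCk (x := ⟨x, hxK⟩) (y := ⟨y, hle hy⟩)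
    (by rw [mem_subgroupOf]; exact hxH) (by rw [mem_subgroupOf]; exact hy) (Subtype.ext hxy)
  exact congrArg Subtype.val h1

theorem exists_iso_kernel (hle : H ≤ K) {C : Subgroup K} (hc : IsComplement' (H.subgroupOf K) C) :
    Nonempty (C ≃* K.map (QuotientGroup.mk' H)) := by
  let φ : C →* ↥(K.map (QuotientGroup.mk' H)) :=
    ((QuotientGroup.mk' H).comp (K.subtype.comp C.subtype)).codRestrict _
      (fun c => ⟨(c : K), (c : K).2, rfl⟩)
  have hinj : Function.Injective φ := by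
    rw [injective_iff_map_eq_one]
    intro c hc'
    have h1 : ((c : K) : G) ∈ H := by
      have h2 : ((φ c : ↥(K.map (QuotientGroup.mk' H))) : G ⧸ H) = 1 := by rw [hc']; rfl
      exact (QuotientGroup.eq_one_iff _).mp h2
    have h3 : (c : K) ∈ H.subgroupOf K := by rw [mem_subgroupOf]; exact h1
    have h4 := Subgroup.disjoint_def.mp hc.disjoint h3 c.2
    exact Subtype.ext h4
  have hsurj : Function.Surjective φ := by
    rintro ⟨_, k, hk, rfl⟩
    obtain ⟨⟨n, c⟩, hnc⟩ := hc.2 ⟨k, hk⟩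
    refine ⟨c, Subtype.ext ?_⟩
    have hn : ((n : K) : G) ∈ H := by
      have := n.2
      rwa [SetLike.mem_coe, mem_subgroupOf] at this
    have hk' : ((n : K) : G) * ((c : K) : G) = k := congrArg Subtype.val hnc
    change (((c : K) : G) : G ⧸ H) = (k : G ⧸ H)
    rw [← hk', QuotientGroup.mk_mul, (QuotientGroup.eq_one_iff _).mpr hn, one_mul]
  exact ⟨MulEquiv.ofBijective φ ⟨hinj, hsurj⟩⟩

theorem exists_iso_quot (hle : H ≤ K) {D : Subgroup (G ⧸ H)}
    (hc : IsComplement' (K.map (QuotientGroup.mk' H)) D) : Nonempty (D ≃* G ⧸ K) := by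
  let ψ₀ : G ⧸ H →* G ⧸ K := QuotientGroup.map H K (MonoidHom.id G) (fun x hx => hle hx)
  have hψ₀ : ∀ x : G, ψ₀ (x : G ⧸ H) = (x : G ⧸ K) := fun x => rfl
  let ψ : D →* G ⧸ K := ψ₀.comp D.subtype
  have hinj : Function.Injective ψ := by
    rw [injective_iff_map_eq_one]
    rintro ⟨d, hd⟩ hd1
    obtain ⟨x, rfl⟩ := QuotientGroup.mk_surjective d
    have h1 : (x : G ⧸ K) = 1 := hd1
    have h2 : x ∈ K := (QuotientGroup.eq_one_iff x).mp h1
    have h3 : (x : G ⧸ H) ∈ K.map (QuotientGroup.mk' H) := ⟨x, h2, rfl⟩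
    exact Subtype.ext (Subgroup.disjoint_def.mp hc.disjoint h3 hd)
  have hsurj : Function.Surjective ψ := by
    intro y
    obtain ⟨g, rfl⟩ := QuotientGroup.mk_surjective y
    obtain ⟨⟨n, d⟩, hnd⟩ := hc.2 (g : G ⧸ H)
    refine ⟨d, ?_⟩
    obtain ⟨n₀, hn₀⟩ := n
    obtain ⟨k, hk, rfl⟩ := hn₀
    have h1 : ψ₀ ((QuotientGroup.mk' H k : G ⧸ H) * (d : G ⧸ H)) = ψ₀ (g : G ⧸ H) :=
      congrArg ψ₀ hnd
    rw [map_mul] at h1
    have h2 : ψ₀ (QuotientGroup.mk' H k) = 1 := by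
      change (k : G ⧸ K) = 1
      exact (QuotientGroup.eq_one_iff k).mpr hk
    rw [h2, one_mul] at h1
    exact h1
  exact ⟨MulEquiv.ofBijective ψ ⟨hinj, hsurj⟩⟩

theorem no_commuting (hle : H ≤ K) {C : Subgroup K} (hC : IsFrobeniusComplement C)
    (hCk : frobeniusKernel C = (H.subgroupOf K : Set K)) {D : Subgroup (G ⧸ H)}
    (hD : IsFrobeniusComplement D)
    (hDk : frobeniusKernel D = (K.map (QuotientGroup.mk' H) : Set (G ⧸ H)))
    (hab : (Nat.card (K ⧸ H.subgroupOf K)).Coprime (Nat.card H))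
    (hbc : (Nat.card (K ⧸ H.subgroupOf K)).Coprime (Nat.card (G ⧸ K)))
    {p q : ℕ} (hp : p.Prime) (hq : q.Prime) {x y : G} (hx : orderOf x = p) (hy : orderOf y = q)
    (hpb : p ∣ Nat.card (K ⧸ H.subgroupOf K)) (hqb : ¬ q ∣ Nat.card (K ⧸ H.subgroupOf K))
    (hxy : x * y = y * x) : False := by
  have hxK : x ∈ K := by
    have h1 : orderOf (x : G ⧸ K) ∣ p := hx ▸ orderOf_map_dvd (QuotientGroup.mk' K) x
    have h2 : orderOf (x : G ⧸ K) ∣ Nat.card (G ⧸ K) := orderOf_dvd_natCard _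
    have h3 : p.Coprime (Nat.card (G ⧸ K)) := Nat.Coprime.coprime_dvd_left hpb hbc
    have h4 : orderOf (x : G ⧸ K) = 1 := Nat.eq_one_of_dvd_coprimes h3 h1 h2
    exact (QuotientGroup.eq_one_iff x).mp (orderOf_eq_one_iff.mp h4)
  have hxH : x ∉ H := by
    intro h
    have h1 : p ∣ Nat.card H := hx ▸ Subgroup.orderOf_dvd_natCard H h
    have h3 : p.Coprime (Nat.card H) := Nat.Coprime.coprime_dvd_left hpb hab
    exact hp.one_lt.ne' (Nat.Coprime.eq_one_of_dvd h3 h1)
  have hyK : y ∈ K := by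
    by_contra h
    exact hxH (comm_quot hle hD hDk h hxK hxy.symm)
  have hyH : y ∉ H := by
    intro h
    have h1 := comm_sub hle hC hCk hxK hxH h hxy
    rw [h1, orderOf_one] at hy
    exact hq.one_lt.ne hy
  apply hqb
  let y' : K := ⟨y, hyK⟩
  have h1 : orderOf (y' : K ⧸ H.subgroupOf K) ∣ q := by
    have h2 : orderOf y' = q := by rw [← hy]; exact Subgroup.orderOf_mk y hyK
    exact h2 ▸ orderOf_map_dvd (QuotientGroup.mk' _) y'
  have h3 : orderOf (y' : K ⧸ H.subgroupOf K) ≠ 1 := by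
    intro h
    have h4 := orderOf_eq_one_iff.mp h
    have h5 := (QuotientGroup.eq_one_iff y').mp h4
    rw [mem_subgroupOf] at h5
    exact hyH h5
  have h4 : orderOf (y' : K ⧸ H.subgroupOf K) = q := ((Nat.dvd_prime hq).mp h1).resolve_left h3
  exact h4 ▸ orderOf_dvd_natCard _

/-- Frattini argument for a Frobenius complement of a normal subgroup. -/
theorem exists_mem_normalizer_complement {C : Subgroup K} (hC : IsFrobeniusComplement C) (g : G) :
    ∃ k : K, (k : G) * g ∈ normalizer ((C.map K.subtype : Subgroup G) : Set G) := by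
  let eg : K ≃* K := MulAut.conjNormal g
  have heg : ∀ c : K, ((eg c : K) : G) = g * (c : G) * g⁻¹ := fun c => rfl
  have hC₂ : IsFrobeniusComplement (C.map eg.toMonoidHom) :=
    Frobenius.isFrobeniusComplement_map eg hC
  obtain ⟨k, hk⟩ := exists_conj_of_complements hC hC₂
  refine ⟨k, ?_⟩
  rw [mem_normalizer_iff]
  intro h
  constructor
  · rintro ⟨c, hc, rfl⟩
    refine ⟨k * eg c * k⁻¹, ?_, ?_⟩
    · change k * eg c * k⁻¹ ∈ C
      rw [← hk, mem_conj_smul_iff]
      have h1 : k⁻¹ * (k * eg c * k⁻¹) * k = eg c := by group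
      rw [h1]
      exact ⟨c, hc, rfl⟩
    · change ((k : G) * ((eg c : K) : G) * (k : G)⁻¹) = _
      rw [heg]
      simp only [K.subtype_apply, mul_inv_rev]
      group
  · rintro ⟨c, hc, hch⟩
    have hc' : c ∈ MulAut.conj k • C.map eg.toMonoidHom := by rw [hk]; exact hc
    rw [mem_conj_smul_iff] at hc'
    obtain ⟨c₀, hc₀, hc₀e⟩ := hc'
    refine ⟨c₀, hc₀, ?_⟩
    have h1 : ((c : K) : G) = (k : G) * g * (c₀ : G) * g⁻¹ * (k : G)⁻¹ := by
      have h2 : c = k * eg c₀ * k⁻¹ := by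
        have h3 : eg c₀ = k⁻¹ * c * k := hc₀e
        rw [h3]; group
      rw [h2]
      change ((k : G) * ((eg c₀ : K) : G) * (k : G)⁻¹) = _
      rw [heg]
      group
    have hch' : ((c : K) : G) = (k : G) * g * h * ((k : G) * g)⁻¹ := hch
    have h3 : (k : G) * g * h * ((k : G) * g)⁻¹ = (k : G) * g * (c₀ : G) * g⁻¹ * (k : G)⁻¹ := by
      rw [← hch', h1]
    have h4 : h = (c₀ : G) := by
      have h5 : (k : G) * g * h * ((k : G) * g)⁻¹ = (k : G) * g * (c₀ : G) * ((k : G) * g)⁻¹ := by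
        rw [h3]; group
      have h6 := mul_right_cancel h5
      exact (mul_left_cancel h6).symm ▸ rfl
    exact h4.symm

theorem mixed_case (hle : H ≤ K) {C : Subgroup K} (hC : IsFrobeniusComplement C)
    (hCk : frobeniusKernel C = (H.subgroupOf K : Set K)) {D : Subgroup (G ⧸ H)}
    (hD : IsFrobeniusComplement D)
    (hDk : frobeniusKernel D = (K.map (QuotientGroup.mk' H) : Set (G ⧸ H)))
    (hc1 : IsComplement' (H.subgroupOf K) C)
    (hnilH : Group.IsNilpotent H) {p q : ℕ} (hp : p.Prime) (hq : q.Prime)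
    (hpa : p ∣ Nat.card H) (hqc : q ∣ Nat.card (G ⧸ K)) (hqa : ¬ q ∣ Nat.card H)
    (hqb : ¬ q ∣ Nat.card C) (hpb : ¬ p ∣ Nat.card C) : ∃ g : G, orderOf g = p * q := by
  classical
  haveI : Fact p.Prime := ⟨hp⟩
  haveI : Fact q.Prime := ⟨hq⟩
  have hpq : p ≠ q := by
    rintro rfl
    exact hqa hpa
  obtain ⟨P⟩ : Nonempty (Sylow p H) := inferInstance
  have hPn : (P : Subgroup H).Normal := inferInstance
  haveI hPc : (P : Subgroup H).Characteristic := Sylow.characteristic_of_normal P hPn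
  let P' : Subgroup G := (P : Subgroup H).map H.subtype
  haveI hP'n : P'.Normal := ConjAct.normal_of_characteristic_of_normal
  have hP'p : IsPGroup p P' := P.isPGroup'.map _
  have hP'H : P' ≤ H := by
    rintro _ ⟨x, -, rfl⟩
    exact x.2
  have hP'1 : P' ≠ ⊥ := by
    have h1 := P.ne_bot_of_dvd_card hpa
    intro h
    apply h1
    rw [eq_bot_iff]
    intro x hx
    have h2 : (x : G) ∈ P' := ⟨x, hx, rfl⟩
    rw [h, mem_bot] at h2
    exact Subtype.ext h2
  haveI hP'nt : Nontrivial P' := Subgroup.nontrivial_iff_ne_bot _ |>.mpr hP'1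
  let V : Subgroup G := (center P').map P'.subtype
  haveI hVn : V.Normal := ConjAct.normal_of_characteristic_of_normal
  have hVp : IsPGroup p V := (hP'p.to_subgroup (center P')).map _
  have hVH : V ≤ H := by
    rintro _ ⟨x, -, rfl⟩
    exact hP'H x.2
  have hV1 : V ≠ ⊥ := by
    haveI := hP'p.center_nontrivial
    obtain ⟨z, hz⟩ := exists_ne (1 : center P')
    intro h
    have h2 : ((z : P') : G) ∈ V := ⟨z, z.2, rfl⟩
    rw [h, mem_bot] at h2
    exact hz (Subtype.ext (Subtype.ext h2))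
  have hVab : IsMulCommutative V := Subgroup.map_isMulCommutative _ _
  -- the normaliser
  let C' : Subgroup G := C.map K.subtype
  have hcardC' : Nat.card C' = Nat.card C := Subgroup.card_map_of_injective K.subtype_injective
  let N : Subgroup G := normalizer (C' : Set G)
  have hsup : N ⊔ K = ⊤ := by
    rw [eq_top_iff]
    intro g _
    obtain ⟨k, hk⟩ := exists_mem_normalizer_complement hC g
    have h1 : g = (k : G)⁻¹ * ((k : G) * g) := by group
    rw [h1]
    exact Subgroup.mul_mem _ (mem_sup_right (K.inv_mem k.2)) (mem_sup_left hk)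
  have hqN : q ∣ Nat.card N := by
    have h1 : K.relIndex N = K.index := by
      rw [← relIndex_sup_right, hsup, relIndex_top_right]
    have h2 : K.relIndex N ∣ Nat.card N := relIndex_dvd_card K N
    rw [h1] at h2
    exact hqc.trans h2
  obtain ⟨y₀, hy₀⟩ := exists_prime_orderOf_dvd_card' q hqN
  let y : G := y₀
  have hy : orderOf y = q := by rw [← hy₀]; exact Subgroup.orderOf_coe y₀
  have hyN : y ∈ normalizer (C' : Set G) := y₀.2
  have hcardK : Nat.card H * Nat.card C = Nat.card K := by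
    rw [← hc1.card_mul_card]
    congr 1
    exact (Nat.card_congr (subgroupOfEquivOfLe hle).toEquiv).symm
  have hyK : y ∉ K := by
    intro h
    have h1 : q ∣ Nat.card K := hy ▸ Subgroup.orderOf_dvd_natCard K h
    rw [← hcardK] at h1
    rcases (Nat.Prime.dvd_mul hq).mp h1 with h2 | h2
    · exact hqa h2
    · exact hqb h2
  have hC'K : ∀ c ∈ C', c ∈ K := by
    rintro _ ⟨c, -, rfl⟩
    exact c.2
  have hC'H : ∀ c ∈ C', c ≠ 1 → c ∉ H := by
    rintro _ ⟨c, hc, rfl⟩ hc1' hh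
    apply hc1'
    have h1 : c ∈ H.subgroupOf K := by rw [mem_subgroupOf]; exact hh
    have h2 := Subgroup.disjoint_def.mp hc1.disjoint h1 hc
    rw [h2]; rfl
  have hC1 : C' ≠ ⊥ := by
    intro h
    apply hC.1
    rw [eq_bot_iff]
    intro x hx
    have h2 : (x : G) ∈ C' := ⟨x, hx, rfl⟩
    rw [h, mem_bot] at h2
    exact Subtype.ext h2
  obtain ⟨v, hvV, hv1, hvy⟩ := fixed_of_prime_action V C' hVab hV1 hq hy hyN
    (fun c hc hc1' hcy => hC'H c hc hc1' (comm_quot hle hD hDk hyK (hC'K c hc) hcy.symm))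
    hC1
    (by
      obtain ⟨n, hn⟩ := IsPGroup.iff_card.mp hVp
      rw [hn, hcardC']
      exact Nat.Coprime.pow_left _ ((Nat.Prime.coprime_iff_not_dvd hp).mpr hpb))
    (fun c hc hc1' v hv hcv => comm_sub hle hC hCk (hC'K c hc) (hC'H c hc hc1') (hVH hv) hcv)
    (by rw [hcardC']; exact hqb)
  -- an element of order `p` in `⟨v⟩`
  have hvo : p ∣ orderOf v := by
    obtain ⟨n, hn⟩ := IsPGroup.iff_orderOf.mp hVp ⟨v, hvV⟩
    rw [Subgroup.orderOf_mk] at hn
    rw [hn]
    have hn0 : n ≠ 0 := by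
      rintro rfl
      rw [pow_zero] at hn
      exact hv1 (orderOf_eq_one_iff.mp hn)
    exact dvd_pow_self p hn0
  have hw : orderOf (v ^ (orderOf v / p)) = p := orderOf_pow_orderOf_div (orderOf_pos v).ne' hvo
  have hcomm : Commute (v ^ (orderOf v / p)) y := Commute.pow_left hvy _
  refine ⟨v ^ (orderOf v / p) * y, ?_⟩
  rw [hcomm.orderOf_mul_eq_mul_orderOf_of_coprime
    (by rw [hw, hy]; exact (Nat.coprime_primes hp hq).mpr hpq), hw, hy]

/-- In a group with a normal subgroup of odd order and an iso to a kernel: oddness. -/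
theorem odd_card_of_iso {L L₂ : Type*} [Group L] [Finite L] [Group L₂] {N C : Subgroup L} [N.Normal]
    {N₂ D : Subgroup L₂} [hN₂ : N₂.Normal] (hc : IsComplement' N C) (hN : N ≠ ⊥)
    (hf : ∀ h ∈ C, h ≠ 1 → N ⊓ centralizer {h} = ⊥) (hD : D ≠ ⊥)
    (hf₂ : ∀ h ∈ D, h ≠ 1 → N₂ ⊓ centralizer {h} = ⊥) (e : C ≃* N₂) : Odd (Nat.card C) := by
  by_contra hodd
  rw [Nat.not_odd_iff_even] at hodd
  obtain ⟨⟨s, hs, hso, huniq, -⟩, -⟩ := even_complement hc hN hf hodd.two_dvd
  obtain ⟨d, hd, hd1⟩ := (Subgroup.bot_or_exists_ne_one D).resolve_left hD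
  let t : N₂ := e ⟨s, hs⟩
  have hto : orderOf (t : L₂) = 2 := by
    rw [Subgroup.orderOf_coe, MulEquiv.orderOf_eq, Subgroup.orderOf_mk, hso]
  have hu : d * t * d⁻¹ ∈ N₂ := hN₂.conj_mem _ t.2 d
  have huo : orderOf (d * (t : L₂) * d⁻¹) = 2 := by
    rw [← hto]
    exact MulEquiv.orderOf_eq (MulAut.conj d) t
  let u : N₂ := ⟨_, hu⟩
  let c : C := e.symm u
  have hco : orderOf (c : L) = 2 := by
    rw [Subgroup.orderOf_coe, MulEquiv.orderOf_eq, Subgroup.orderOf_mk, huo]
  have h1 : (c : L) = s := huniq _ c.2 hco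
  have h2 : c = ⟨s, hs⟩ := Subtype.ext h1
  have h3 : u = t := by
    change u = e ⟨s, hs⟩
    rw [← h2]
    exact (e.apply_symm_apply u).symm
  have h4 : d * (t : L₂) * d⁻¹ = t := congrArg Subtype.val h3
  have h5 : (t : L₂) ∈ N₂ ⊓ centralizer {d} := by
    refine ⟨t.2, mem_centralizer_singleton_iff.mpr ?_⟩
    calc (t : L₂) * d = (d * (t : L₂) * d⁻¹) * d := by rw [h4]
      _ = d * t := by group
  rw [hf₂ d hd hd1, mem_bot] at h5
  rw [h5, orderOf_one] at hto
  omega

/-- **Structure of 2-Frobenius groups.** -/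
theorem two_frobenius_main (hlt : H < K)
    (hK : ∃ C : Subgroup ↥K, IsFrobeniusComplement C ∧ frobeniusKernel C = (H.subgroupOf K : Set ↥K))
    (hGH : ∃ C : Subgroup (G ⧸ H), IsFrobeniusComplement C ∧
      frobeniusKernel C = (K.map (QuotientGroup.mk' H) : Set (G ⧸ H))) :
    Group.IsSolvable G ∧ Odd (Nat.card (↥K ⧸ H.subgroupOf K)) ∧
      Nat.Coprime (Nat.card (↥K ⧸ H.subgroupOf K)) (Nat.card ↥H * Nat.card (G ⧸ K)) ∧ IsCyclic (G ⧸ K) ∧
      ∀ p q : ℕ, p.Prime → q.Prime → p ≠ q → p ∣ Nat.card G → q ∣ Nat.card G →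
        ((∃ g : G, orderOf g = p * q) ↔
          (p ∣ Nat.card (↥K ⧸ H.subgroupOf K) ↔ q ∣ Nat.card (↥K ⧸ H.subgroupOf K))) := by
  classical
  obtain ⟨C, hC, hCk⟩ := hK
  obtain ⟨D, hD, hDk⟩ := hGH
  have hle := hlt.le
  obtain ⟨hN1n, hc1, hN1, hf1, hcop1, hnil1⟩ := frob_pack hC hCk
  obtain ⟨hN2n, hc2, hN2, hf2, hcop2, hnil2⟩ := frob_pack hD hDk
  obtain ⟨e⟩ := exists_iso_kernel hle hc1
  obtain ⟨ψ⟩ := exists_iso_quot hle hc2
  have hcardH : Nat.card (H.subgroupOf K) = Nat.card H :=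
    Nat.card_congr (subgroupOfEquivOfLe hle).toEquiv
  have hb : Nat.card (K ⧸ H.subgroupOf K) = Nat.card C := hc1.symm.index_eq_card
  have hcardN2 : Nat.card (K.map (QuotientGroup.mk' H)) = Nat.card C :=
    (Nat.card_congr e.toEquiv).symm
  have hcardD : Nat.card D = Nat.card (G ⧸ K) := Nat.card_congr ψ.toEquiv
  have hnilH : Group.IsNilpotent H := nilpotent_of_mulEquiv (subgroupOfEquivOfLe hle)
  have hnilC : Group.IsNilpotent C := nilpotent_of_mulEquiv e.symm
  have hoddC : Odd (Nat.card C) := odd_card_of_iso hc1 hN1 hf1 hD.1 hf2 e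
  -- `C` is cyclic
  haveI hZ : IsZGroup C := by
    refine ⟨fun p hp P => ?_⟩
    haveI : Fact p.Prime := ⟨hp⟩
    rcases sylow_of_fpf_complement hc1 hN1 hf1 p P with h | ⟨rfl, n, ⟨f⟩⟩
    · exact h
    · exfalso
      have h1 : Nat.card P = 4 * 2 ^ n := by
        haveI : NeZero (2 ^ n) := ⟨by positivity⟩
        rw [Nat.card_congr f.toEquiv, Nat.card_eq_fintype_card, QuaternionGroup.card]
      have h2 : Nat.card P ∣ Nat.card C := Subgroup.card_subgroup_dvd_card _
      have h3 : 2 ∣ Nat.card C := dvd_trans (by rw [h1]; exact dvd_mul_of_dvd_left (by norm_num) _) h2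
      exact (Nat.not_even_iff_odd.mpr hoddC) (even_iff_two_dvd.mpr h3)
  haveI hcycC : IsCyclic C := inferInstance
  have hcycN2 : IsCyclic (K.map (QuotientGroup.mk' H)) :=
    isCyclic_of_surjective e.toMonoidHom e.surjective
  -- `D` is abelian, hence cyclic
  have hDcomm : ∀ a ∈ D, ∀ b ∈ D, a * b = b * a := by
    intro a ha b hb'
    have h1 := commutator_mem_centralizer_of_cyclic hcycN2
      (g := a) (h := b) (by rw [Subgroup.normalizer_eq_top_iff.mpr hN2n]; trivial)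
      (by rw [Subgroup.normalizer_eq_top_iff.mpr hN2n]; trivial)
    have h2 : ⁅a, b⁆ ∈ D := by
      rw [commutatorElement_def]
      exact D.mul_mem (D.mul_mem (D.mul_mem ha hb') (D.inv_mem ha)) (D.inv_mem hb')
    have h3 : ⁅a, b⁆ = 1 := by
      by_contra hne
      have h4 := hf2 _ h2 hne
      obtain ⟨n, hn, hn1⟩ := (Subgroup.bot_or_exists_ne_one _).resolve_left hN2
      have h5 : n ∈ K.map (QuotientGroup.mk' H) ⊓ centralizer {⁅a, b⁆} := by
        refine ⟨hn, mem_centralizer_singleton_iff.mpr ?_⟩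
        exact mem_centralizer_iff.mp h1 n hn
      rw [h4, mem_bot] at h5
      exact hn1 h5
    exact commutatorElement_eq_one_iff_mul_comm.mp h3
  have hDab : IsMulCommutative D := ⟨⟨fun a b => Subtype.ext (hDcomm a a.2 b b.2)⟩⟩
  have hDs : Group.IsSolvable D := by
    apply Group.isSolvable_of_comm
    exact hDab.is_comm.comm
  have hcycD : IsCyclic D := isCyclic_of_le_complement hc2 hN2 hf2 D le_rfl hDs (Or.inl hDab)
  haveI hcycGK : IsCyclic (G ⧸ K) := isCyclic_of_surjective ψ.toMonoidHom ψ.surjective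
  -- solvability
  have hsolvK : Group.IsSolvable K := by
    let g : K →* ↥(K.map (QuotientGroup.mk' H)) :=
      ((QuotientGroup.mk' H).comp K.subtype).codRestrict _ (fun c => ⟨c, c.2, rfl⟩)
    refine Group.isSolvable_of_ker_le_range (Subgroup.inclusion hle) g ?_
    intro x hx
    have h1 : ((g x : ↥(K.map (QuotientGroup.mk' H))) : G ⧸ H) = 1 := by
      rw [MonoidHom.mem_ker.mp hx]; rfl
    have h2 : (x : G) ∈ H := (QuotientGroup.eq_one_iff _).mp h1
    exact ⟨⟨x, h2⟩, rfl⟩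
  have hsolvG : Group.IsSolvable G := by
    refine Group.isSolvable_of_ker_le_range K.subtype (QuotientGroup.mk' K) ?_
    intro x hx
    have h2 : x ∈ K := (QuotientGroup.eq_one_iff _).mp hx
    exact ⟨⟨x, h2⟩, rfl⟩
  -- numerics
  have hcopab : (Nat.card C).Coprime (Nat.card H) := by
    rw [← hcardH]; exact hcop1.symm
  have hcopbc : (Nat.card C).Coprime (Nat.card (G ⧸ K)) := by
    rw [← hcardD, ← hcardN2]; exact hcop2
  have hcardG : Nat.card G = Nat.card H * Nat.card C * Nat.card (G ⧸ K) := by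
    rw [← hcardH, hc1.card_mul_card, ← Subgroup.index_eq_card, Subgroup.card_mul_index]
  refine ⟨hsolvG, hb ▸ hoddC, ?_, hcycGK, ?_⟩
  · rw [hb]
    exact Nat.Coprime.mul_right hcopab hcopbc
  intro p q hp hq hpq hpG hqG
  have hab' : (Nat.card (K ⧸ H.subgroupOf K)).Coprime (Nat.card H) := by rw [hb]; exact hcopab
  have hbc' : (Nat.card (K ⧸ H.subgroupOf K)).Coprime (Nat.card (G ⧸ K)) := by rw [hb]; exact hcopbc
  constructor
  · rintro ⟨g, hg⟩
    have hg0 : orderOf g ≠ 0 := (orderOf_pos g).ne'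
    have hx : orderOf (g ^ (orderOf g / p)) = p :=
      orderOf_pow_orderOf_div hg0 (by rw [hg]; exact dvd_mul_right _ _)
    have hy : orderOf (g ^ (orderOf g / q)) = q :=
      orderOf_pow_orderOf_div hg0 (by rw [hg]; exact dvd_mul_left _ _)
    have hc : g ^ (orderOf g / p) * g ^ (orderOf g / q) = g ^ (orderOf g / q) * g ^ (orderOf g / p) :=
      (Commute.refl g).pow_pow _ _
    constructor
    · intro hpb
      by_contra hqb
      exact no_commuting hle hC hCk hD hDk hab' hbc' hp hq hx hy hpb hqb hc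
    · intro hqb
      by_contra hpb
      exact no_commuting hle hC hCk hD hDk hab' hbc' hq hp hy hx hqb hpb hc.symm
  · intro hiff
    rw [hb] at hiff
    by_cases hpb : p ∣ Nat.card C
    · have hqb := hiff.mp hpb
      have hd : p * q ∣ Nat.card C :=
        Nat.Coprime.mul_dvd_of_dvd_of_dvd ((Nat.coprime_primes hp hq).mpr hpq) hpb hqb
      obtain ⟨c₀, hc₀⟩ := IsCyclic.exists_ofOrder_eq_natCard (α := C)
      have h1 : orderOf (c₀ ^ (orderOf c₀ / (p * q))) = p * q :=
        orderOf_pow_orderOf_div (orderOf_pos c₀).ne' (by rw [hc₀]; exact hd)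
      refine ⟨(((c₀ ^ (orderOf c₀ / (p * q)) : C) : K) : G), ?_⟩
      rw [Subgroup.orderOf_coe, Subgroup.orderOf_coe, h1]
    · have hqb : ¬ q ∣ Nat.card C := fun h => hpb (hiff.mpr h)
      have hp' : p ∣ Nat.card H ∨ p ∣ Nat.card (G ⧸ K) := by
        rw [hcardG] at hpG
        rcases (Nat.Prime.dvd_mul hp).mp hpG with h | h
        · rcases (Nat.Prime.dvd_mul hp).mp h with h | h
          · exact Or.inl h
          · exact absurd h hpb
        · exact Or.inr h
      have hq' : q ∣ Nat.card H ∨ q ∣ Nat.card (G ⧸ K) := by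
        rw [hcardG] at hqG
        rcases (Nat.Prime.dvd_mul hq).mp hqG with h | h
        · rcases (Nat.Prime.dvd_mul hq).mp h with h | h
          · exact Or.inl h
          · exact absurd h hqb
        · exact Or.inr h
      by_cases h1 : q ∣ Nat.card H
      · by_cases h2 : p ∣ Nat.card H
        · obtain ⟨t, ht⟩ := exists_order_mul_of_nilpotent hp hq hpq h2 h1
          exact ⟨t, by rw [Subgroup.orderOf_coe, ht]⟩
        · obtain ⟨g, hg⟩ := mixed_case hle hC hCk hD hDk hc1 hnilH hq hp h1 (hp'.resolve_left h2) h2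
            hpb hqb
          exact ⟨g, by rw [hg, mul_comm]⟩
      · have h3 := hq'.resolve_left h1
        by_cases h2 : p ∣ Nat.card H
        · exact mixed_case hle hC hCk hD hDk hc1 hnilH hp hq h2 h3 h1 hqb hpb
        · have h4 := hp'.resolve_left h2
          exact exists_order_of_cyclic_quot (K := K)
            (Nat.Coprime.mul_dvd_of_dvd_of_dvd ((Nat.coprime_primes hp hq).mpr hpq) h4 h3)

end

end Cfsg.Agent.Lib.GS1
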