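import Mathlib
import Cfsg.Agent.Lib.GS1.TwoFrob
import Cfsg.Agent.Lib.Frobenius.Basic
import Cfsg.Agent.Lib.Techniques.Bender
import Cfsg.Agent.S0016

/-!
# Equal order pairs
-/

set_option autoImplicit false

namespace Cfsg.Agent.Lib.GS1

open Cfsg Subgroup Cfsg.Agent.Lib.Hall Cfsg.Agent.Lib.Core
open scoped Pointwise commutatorElement

universe u

/-- A `q`-group acting fixed point freely on a nontrivial abelian group is cyclic or quaternion. -/
theorem cyclic_or_quat_of_fpf_action {Q V : Type u} [Group Q] [Finite Q] [CommGroup V] [Finite V]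
    [Nontrivial V] {q : ℕ} [hq : Fact q.Prime] (hQ : IsPGroup q Q) (ψ : Q →* MulAut V)
    (hfpf : ∀ h : Q, h ≠ 1 → ∀ v : V, ψ h v = v → v = 1) :
    IsCyclic Q ∨ (q = 2 ∧ ∃ n : ℕ, Nonempty (Q ≃* QuaternionGroup (2 ^ n))) := by
  classical
  by_cases hnt : Nontrivial Q
  swap
  · left
    rw [not_nontrivial_iff_subsingleton] at hnt
    exact isCyclic_of_subsingleton
  letI : DistribMulAction Q (Additive V) :=
    { smul := fun h v => Additive.ofMul (ψ h (Additive.toMul v))
      one_smul := fun v => by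
        change Additive.ofMul (ψ 1 (Additive.toMul v)) = v
        rw [map_one]; rfl
      mul_smul := fun a b v => by
        change Additive.ofMul (ψ (a * b) (Additive.toMul v)) = _
        rw [map_mul]; rfl
      smul_zero := fun a => by
        change Additive.ofMul (ψ a 1) = 0
        rw [map_one]; rfl
      smul_add := fun a x y => by
        change Additive.ofMul (ψ a (Additive.toMul x * Additive.toMul y)) = _
        rw [map_mul]; rfl }
  obtain ⟨L, i1, i2, K, hK, ⟨e⟩⟩ := Frobenius.exists_frobenius_of_fpf (V := Additive V) (H := Q)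
    (fun h hh v hv => by
      have := hfpf h hh (Additive.toMul v) hv
      exact this)
  obtain ⟨N, hN, hNn, hc⟩ := FrobThm.frobenius_theorem K hK
  obtain ⟨-, -, hN1, hf1, -, -⟩ := frob_pack hK hN.symm
  have hKp : IsPGroup q K := hQ.of_equiv e.symm
  have hKtop : IsPGroup q (⊤ : Subgroup K) := hKp.to_subgroup ⊤
  obtain ⟨P, hP⟩ := hKtop.exists_le_sylow
  have hPtop : (P : Subgroup K) = ⊤ := top_le_iff.mp hP
  let e₂ : (P : Subgroup K) ≃* Q := (MulEquiv.subgroupCongr hPtop).trans (Subgroup.topEquiv.trans e)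
  rcases sylow_of_fpf_complement hc hN1 hf1 q P with h | ⟨h2, n, ⟨f⟩⟩
  · left
    exact isCyclic_of_surjective e₂.toMonoidHom e₂.surjective
  · right
    exact ⟨h2, n, ⟨e₂.symm.trans f⟩⟩

theorem commute_of_nilpotent_coprime {T : Type*} [Group T] [Finite T] [Group.IsNilpotent T] {x y : T}
    {p q a b : ℕ} (hp : p.Prime) (hq : q.Prime) (hpq : p ≠ q) (hx : orderOf x = p ^ a) (hy : orderOf y = q ^ b) :
    Commute x y := by
  haveI : Fact p.Prime := ⟨hp⟩
  haveI : Fact q.Prime := ⟨hq⟩
  have hxp : IsPGroup p (zpowers x) := by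
    rw [IsPGroup.iff_card]; exact ⟨a, by rw [Nat.card_zpowers, hx]⟩
  have hyq : IsPGroup q (zpowers y) := by
    rw [IsPGroup.iff_card]; exact ⟨b, by rw [Nat.card_zpowers, hy]⟩
  obtain ⟨P, hP⟩ := hxp.exists_le_sylow
  obtain ⟨Q, hQ⟩ := hyq.exists_le_sylow
  have hPn : (P : Subgroup T).Normal := inferInstance
  have hQn : (Q : Subgroup T).Normal := inferInstance
  have hdis : Disjoint (P : Subgroup T) Q :=
    IsPGroup.disjoint_of_ne p q hpq _ _ P.isPGroup' Q.isPGroup'
  exact Subgroup.commute_of_normal_of_disjoint _ _ hPn hQn hdis x y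
    (hP (mem_zpowers x)) (hQ (mem_zpowers y))

section

variable {G : Type*} [Group G] [Finite G] {N : Subgroup G} [hNn : N.Normal]

/-- The `q`-part of an element outside `N`, when `q` divides its order mod `N`. -/
theorem exists_q_part {q : ℕ} (hq : q.Prime) {x : G} (hd : q ∣ orderOf (x : G ⧸ N)) :
    ∃ y : G, y ∉ N ∧ (∃ a, orderOf y = q ^ a) ∧ ∃ k : ℕ, y = x ^ k := by
  have hx0 : orderOf x ≠ 0 := (orderOf_pos x).ne'
  have h1 : ordProj[q] (orderOf x) ∣ orderOf x := Nat.ordProj_dvd _ _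
  refine ⟨x ^ (orderOf x / ordProj[q] (orderOf x)), ?_,
    ⟨_, orderOf_pow_orderOf_div hx0 h1⟩, _, rfl⟩
  intro hmem
  have h2 : ((x : G ⧸ N)) ^ (orderOf x / ordProj[q] (orderOf x)) = 1 := by
    rw [← QuotientGroup.mk_pow]
    exact (QuotientGroup.eq_one_iff _).mpr hmem
  have h3 := orderOf_dvd_of_pow_eq_one h2
  exact Nat.not_dvd_ordCompl hq hx0 (hd.trans h3)

theorem eqOrd_key (heq : ∀ x : G, x ∉ N → ∀ n ∈ N, orderOf (x * n) = orderOf x) {x v : G} (hxN : x ∉ N)
    (hvN : v ∈ N) (hv1 : v ≠ 1) (hc : (orderOf x).Coprime (orderOf v)) (hxv : Commute x v) : False := by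
  have h1 := heq x hxN v hvN
  rw [hxv.orderOf_mul_eq_mul_orderOf_of_coprime hc] at h1
  have h2 : orderOf v = 1 := by
    have hpos := orderOf_pos x
    exact Nat.eq_of_mul_eq_mul_left hpos (by rw [h1, mul_one])
  exact hv1 (orderOf_eq_one_iff.mp h2)

theorem eqOrdPair_main (hN1 : N ≠ ⊥) (hN2 : N ≠ ⊤)
    (heq : ∀ x : G, x ∉ N → ∀ n ∈ N, orderOf (x * n) = orderOf x)
    (hnil : Group.IsNilpotent N) (hnpp : ¬ IsPrimePow (Nat.card N)) :
    N = fittingSubgroup G ∧
    ∀ (q : ℕ) [Fact q.Prime] (Q : Sylow q (G ⧸ N)), IsCyclic (Q : Subgroup (G ⧸ N)) ∨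
      ∃ n : ℕ, Nonempty ((Q : Subgroup (G ⧸ N)) ≃* QuaternionGroup (2 ^ n)) := by
  classical
  have hN1' : Nat.card N ≠ 1 := fun h1 => hN1 (Subgroup.card_eq_one.mp h1)
  -- a prime different from `q`
  have hex : ∀ q : ℕ, q.Prime → ∃ r : ℕ, r.Prime ∧ r ∣ Nat.card N ∧ r ≠ q := by
    intro q hq
    by_contra hno
    push Not at hno
    haveI : Fact q.Prime := ⟨hq⟩
    have h1 := Nat.eq_prime_pow_of_unique_prime_dvd Nat.card_pos.ne' (fun hd hdv => hno _ hd hdv)
    apply hnpp
    rw [h1]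
    refine ⟨q, _, hq.prime, ?_, rfl⟩
    by_contra h0
    have h00 : (Nat.card N).primeFactorsList.length = 0 := by omega
    rw [h00, pow_zero] at h1
    exact hN1' h1
  constructor
  · apply le_antisymm (le_fittingSubgroup hNn hnil)
    intro y hy
    by_contra hyN
    have hmk : (y : G ⧸ N) ≠ 1 := fun h1 => hyN ((QuotientGroup.eq_one_iff y).mp h1)
    have hmko : orderOf (y : G ⧸ N) ≠ 1 := fun h1 => hmk (orderOf_eq_one_iff.mp h1)
    obtain ⟨q, hq, hqd⟩ := Nat.exists_prime_and_dvd hmko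
    obtain ⟨x, hxN, ⟨a, hxa⟩, k, hxk⟩ := exists_q_part hq hqd
    obtain ⟨r, hr, hrN, hrq⟩ := hex q hq
    haveI : Fact r.Prime := ⟨hr⟩
    obtain ⟨v₀, hv₀⟩ := exists_prime_orderOf_dvd_card' r hrN
    let v : G := v₀
    have hv : orderOf v = r := by rw [← hv₀]; exact Subgroup.orderOf_coe v₀
    have hv1 : v ≠ 1 := by
      intro h1
      rw [h1, orderOf_one] at hv
      exact hr.one_lt.ne hv
    have hxF : x ∈ fittingSubgroup G := by
      rw [hxk]
      exact pow_mem hy k
    have hvF : v ∈ fittingSubgroup G := le_fittingSubgroup hNn hnil v₀.2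
    haveI := isNilpotent_fittingSubgroup G
    have hc := commute_of_nilpotent_coprime (T := fittingSubgroup G) (x := ⟨x, hxF⟩) (y := ⟨v, hvF⟩)
      (a := a) (b := 1) hq hr (Ne.symm hrq) (by rw [Subgroup.orderOf_mk, hxa])
      (by rw [Subgroup.orderOf_mk, hv, pow_one])
    refine eqOrd_key heq hxN v₀.2 hv1 ?_ (congrArg Subtype.val hc)
    rw [hxa, hv]
    exact Nat.Coprime.pow_left _ ((Nat.coprime_primes hq hr).mpr (Ne.symm hrq))
  · intro q _ Q
    have hq : q.Prime := Fact.out
    obtain ⟨r, hr, hrN, hrq⟩ := hex q hq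
    haveI : Fact r.Prime := ⟨hr⟩
    haveI := hnil
    -- the `r`-part of the centre of `N`
    let Z : Subgroup G := (center N).map N.subtype
    haveI hZn : Z.Normal := ConjAct.normal_of_characteristic_of_normal
    have hZab : IsMulCommutative Z := Subgroup.map_isMulCommutative _ _
    have hZnil : Group.IsNilpotent Z := by
      letI : CommGroup Z := { (inferInstance : Group Z) with mul_comm := hZab.is_comm.comm }
      exact CommGroup.isNilpotent
    have hrZ : r ∣ Nat.card Z := by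
      obtain ⟨R₀⟩ : Nonempty (Sylow r N) := inferInstance
      have h1 : (R₀ : Subgroup N) ≠ ⊥ := R₀.ne_bot_of_dvd_card hrN
      have hR₀n : (R₀ : Subgroup N).Normal := inferInstance
      have h2 := normal_inf_center_ne_bot (R₀ : Subgroup N) h1
      have h3 : IsPGroup r ↥((R₀ : Subgroup N) ⊓ center N) := R₀.isPGroup'.to_le inf_le_left
      obtain ⟨n, hn⟩ := IsPGroup.iff_card.mp h3
      have h4 : Nat.card ↥((R₀ : Subgroup N) ⊓ center N) ≠ 1 :=
        fun h => h2 (Subgroup.card_eq_one.mp h)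
      have hn0 : n ≠ 0 := by
        rintro rfl
        exact h4 (by rw [hn, pow_zero])
      have h5 : r ∣ Nat.card ↥((R₀ : Subgroup N) ⊓ center N) := by
        rw [hn]; exact dvd_pow_self r hn0
      have h6 : Nat.card ↥((R₀ : Subgroup N) ⊓ center N) ∣ Nat.card (center N) :=
        Subgroup.card_dvd_of_le inf_le_right
      have h7 : Nat.card Z = Nat.card (center N) :=
        Subgroup.card_map_of_injective N.subtype_injective
      rw [h7]
      exact h5.trans h6
    have hFZ : fittingSubgroup Z = ⊤ := by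
      rw [eq_top_iff]
      exact le_fittingSubgroup inferInstance inferInstance
    have hO : pCore r Z ≠ ⊥ := Cfsg.Agent.Lib.Techniques.pCore_ne_bot_of_dvd (by
      rw [hFZ, Subgroup.card_top]; exact hrZ)
    let V : Subgroup G := (pCore r Z).map Z.subtype
    haveI hVn : V.Normal := ConjAct.normal_of_characteristic_of_normal
    have hVp : IsPGroup r V := (pCore_isPGroup r Z).map _
    have hVZ : V ≤ Z := by
      rintro _ ⟨x, -, rfl⟩
      exact x.2
    have hZN : Z ≤ N := by
      rintro _ ⟨x, -, rfl⟩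
      exact x.2
    have hVN : V ≤ N := hVZ.trans hZN
    have hZcomm : ∀ v ∈ Z, ∀ n ∈ N, n * v = v * n := by
      rintro _ ⟨z, hz, rfl⟩ n hn
      have := (Subgroup.mem_center_iff.mp hz) ⟨n, hn⟩
      exact congrArg Subtype.val this
    have hVcomm : ∀ v ∈ V, ∀ n ∈ N, n * v = v * n := fun v hv => hZcomm v (hVZ hv)
    have hV1 : V ≠ ⊥ := by
      intro h1
      rw [Subgroup.map_eq_bot_iff_of_injective _ Z.subtype_injective] at h1
      exact hO h1
    haveI hVnt : Nontrivial V := (Subgroup.nontrivial_iff_ne_bot _).mpr hV1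
    letI hVc : CommGroup V :=
      { (inferInstance : Group V) with
        mul_comm := fun a b => Subtype.ext (hVcomm _ a.2 _ (hVN b.2)).symm }
    let ρ : G →* MulAut V := MulAut.conjNormal
    have hρ : ∀ n ∈ N, ρ n = 1 := by
      intro n hn
      ext v
      change n * (v : G) * n⁻¹ = v
      rw [hVcomm _ v.2 n hn]
      group
    let ρ' : G ⧸ N →* MulAut V := QuotientGroup.lift N ρ hρ
    let ψ : (Q : Subgroup (G ⧸ N)) →* MulAut V := ρ'.comp (Q : Subgroup (G ⧸ N)).subtype
    have hfpf : ∀ h : (Q : Subgroup (G ⧸ N)), h ≠ 1 → ∀ v : V, ψ h v = v → v = 1 := by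
      rintro ⟨h, hh⟩ hne v hv
      obtain ⟨x, rfl⟩ := QuotientGroup.mk_surjective h
      have hmk : (x : G ⧸ N) ≠ 1 := fun h => hne (Subtype.ext h)
      obtain ⟨a, ha⟩ := IsPGroup.iff_orderOf.mp Q.isPGroup' ⟨x, hh⟩
      rw [Subgroup.orderOf_mk] at ha
      have hqd : q ∣ orderOf (x : G ⧸ N) := by
        rw [ha]
        have ha0 : a ≠ 0 := by
          rintro rfl
          rw [pow_zero] at ha
          exact hmk (orderOf_eq_one_iff.mp ha)
        exact dvd_pow_self q ha0
      obtain ⟨y, hyN, ⟨b, hyb⟩, k, hyk⟩ := exists_q_part hq hqd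
      by_contra hv1
      have hxv : x * (v : G) * x⁻¹ = v := congrArg Subtype.val hv
      have hxv2 : Commute x (v : G) := by
        change x * (v : G) = (v : G) * x
        calc x * (v : G) = x * (v : G) * x⁻¹ * x := by group
          _ = (v : G) * x := by rw [hxv]
      have hyv : Commute y (v : G) := by
        rw [hyk]
        exact hxv2.pow_left k
      refine eqOrd_key heq hyN (hVN v.2) (fun h => hv1 (Subtype.ext h)) ?_ hyv
      obtain ⟨c, hc⟩ := IsPGroup.iff_orderOf.mp hVp v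
      rw [hyb, Subgroup.orderOf_coe, hc]
      exact Nat.Coprime.pow _ _ ((Nat.coprime_primes hq hr).mpr (Ne.symm hrq))
    rcases cyclic_or_quat_of_fpf_action Q.isPGroup' ψ hfpf with h | ⟨-, n, hn⟩
    · exact Or.inl h
    · exact Or.inr ⟨n, hn⟩

end

end Cfsg.Agent.Lib.GS1
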