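import Mathlib
import Cfsg.Agent.Lib.ClassSizes.Kulakoff

/-! Miller's theorem, first part: Hall's count, valid for every prime.  For a noncyclic group `G` of
order `p^(n+1)` and `1 ≤ a < n`, the number of subgroups of order `p^a` of `G` plus `p` is congruent
modulo `p²` to the sum of the same numbers for the maximal subgroups. -/

set_option autoImplicit false

namespace Cfsg.Agent.Lib.GS1.Miller

open Subgroup
open scoped Classical
open Cfsg.Agent.Lib.ClassSizes.Kulakoff Cfsg.Agent.Lib.ClassSizes.KulSylow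

universe u

variable {p : ℕ} [hp : Fact p.Prime]

/-- The finite set of subgroups of index `p`. -/
noncomputable def Mx (G : Type u) [Group G] [Finite G] (p : ℕ) : Finset (Subgroup G) :=
  (Set.toFinite {M : Subgroup G | M.index = p}).toFinset

theorem mem_Mx {G : Type u} [Group G] [Finite G] {M : Subgroup G} : M ∈ Mx G p ↔ M.index = p := by
  simp [Mx]

/-- The number of maximal subgroups of a noncyclic `p`-group. -/
theorem Mx_card_modEq {G : Type u} [Group G] [Finite G] {n : ℕ} (hc : Nat.card G = p ^ n) (hnc : ¬ IsCyclic G) :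
    (Mx G p).card ≡ 1 + p [MOD p ^ 2] := by
  have hpp := hp.out
  haveI := Fintype.ofFinite (Subgroup (Du G p))
  have hGp : IsPGroup p G := IsPGroup.of_card hc
  have hA : ∀ f : Du G p, f ^ p = 1 := du_pow
  have hAp : IsPGroup p (Du G p) := fun f => ⟨1, by rw [pow_one]; exact du_pow f⟩
  obtain ⟨d, hd⟩ := IsPGroup.iff_card.1 hAp
  let 𝓛 : Finset (Subgroup (Du G p)) := Finset.univ.filter (fun L => Nat.card L = p)
  have hmem𝓛 : ∀ L, L ∈ 𝓛 ↔ Nat.card L = p := by
    intro L
    simp [𝓛]
  have h𝓛c : (𝓛.card) * (p - 1) + 1 = p ^ d := by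
    have h1 := card_lines hA (⊤ : Subgroup (Du G p))
    have h2 : Nat.card {L : Subgroup (Du G p) // L ≤ ⊤ ∧ Nat.card L = p} = 𝓛.card := by
      rw [Nat.card_eq_fintype_card, Fintype.card_subtype]
      apply congrArg Finset.card
      ext L
      simp [hmem𝓛]
    rw [h2, Nat.card_congr Subgroup.topEquiv.toEquiv, hd] at h1
    exact h1
  have hd2 : 2 ≤ d := by
    obtain ⟨L₁, L₂, h1, h2, h3⟩ := two_lines hGp hnc (p := p)
    have h4 : 2 ≤ 𝓛.card := by
      have : 1 < 𝓛.card := Finset.one_lt_card.2 ⟨L₁, (hmem𝓛 _).2 h1, L₂, (hmem𝓛 _).2 h2, h3⟩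
      exact this
    by_contra hcon
    have h5 : d ≤ 1 := by omega
    have h6 : p ^ d ≤ p ^ 1 := Nat.pow_le_pow_right hpp.pos h5
    rw [← h𝓛c, pow_one] at h6
    have h7 := hpp.two_le
    have h8 : 2 * (p - 1) ≤ 𝓛.card * (p - 1) := Nat.mul_le_mul_right _ h4
    omega
  obtain ⟨d', rfl⟩ : ∃ d', d = d' + 2 := ⟨d - 2, by omega⟩
  have hμ : 𝓛.card ≡ 1 + p [MOD p ^ 2] := lines_two h𝓛c
  have hbij : (Mx G p).card = 𝓛.card := by
    symm
    refine Finset.card_bij (fun L _ => ann L) ?_ ?_ ?_
    · intro L hL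
      exact mem_Mx.2 (ann_index ((hmem𝓛 L).1 hL))
    · intro L hL L' hL' h
      exact line_unique ((hmem𝓛 L).1 hL) ((hmem𝓛 L').1 hL') h
    · intro U hU
      obtain ⟨L, h3, h4⟩ := exists_line hGp (mem_Mx.1 hU)
      exact ⟨L, (hmem𝓛 _).2 h3, h4⟩
  rw [hbij]
  exact hμ

/-- Subgroups of index `p` of a group of order `p^(n+1)` are the subgroups of order `p^n`. -/
theorem top_layer {G : Type u} [Group G] [Finite G] {n : ℕ} (hc : Nat.card G = p ^ (n + 1)) :
    Nat.card {H : Subgroup G // Nat.card H = p ^ n} = (Mx G p).card := by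
  have hpp := hp.out
  haveI := Fintype.ofFinite (Subgroup G)
  rw [Nat.card_eq_fintype_card, Fintype.card_subtype]
  apply congrArg Finset.card
  ext U
  simp only [Finset.mem_filter, Finset.mem_univ, true_and, mem_Mx]
  constructor
  · intro h
    have h1 := Subgroup.card_mul_index U
    rw [h, hc, pow_succ] at h1
    exact Nat.eq_of_mul_eq_mul_left (pow_pos hpp.pos _) h1
  · intro h
    have h1 := Subgroup.card_mul_index U
    rw [h, hc, pow_succ] at h1
    exact Nat.eq_of_mul_eq_mul_right hpp.pos h1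

/-- Hall's count. -/
theorem hall_step {G : Type u} [Group G] [Finite G] {n a : ℕ} (hc : Nat.card G = p ^ (n + 1))
    (hnc : ¬ IsCyclic G) (ha1 : 1 ≤ a) (han' : a < n) :
    Nat.card {H : Subgroup G // Nat.card H = p ^ a} + p ≡
      ∑ M ∈ Mx G p, Nat.card {H : Subgroup M // Nat.card H = p ^ a} [MOD p ^ 2] := by
  have hpp := hp.out
  haveI := Fintype.ofFinite (Subgroup G)
  haveI := Fintype.ofFinite (Subgroup (Du G p))
  have hGp : IsPGroup p G := IsPGroup.of_card hc
  have hA : ∀ f : Du G p, f ^ p = 1 := du_pow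
  have hAp : IsPGroup p (Du G p) := fun f => ⟨1, by rw [pow_one]; exact du_pow f⟩
  obtain ⟨d, hd⟩ := IsPGroup.iff_card.1 hAp
  let 𝓛 : Finset (Subgroup (Du G p)) := Finset.univ.filter (fun L => Nat.card L = p)
  let 𝓣 : Finset (Subgroup (Du G p)) := Finset.univ.filter (fun T => Nat.card T = p ^ 2)
  let X : Finset (Subgroup G) := Finset.univ.filter (fun U => Nat.card U = p ^ a)
  have hmem𝓛 : ∀ L, L ∈ 𝓛 ↔ Nat.card L = p := by
    intro L
    simp [𝓛]
  have hmem𝓣 : ∀ T, T ∈ 𝓣 ↔ Nat.card T = p ^ 2 := by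
    intro T
    simp [𝓣]
  have hmemX : ∀ U, U ∈ X ↔ Nat.card U = p ^ a := by
    intro U
    simp [X]
  have hXc : Nat.card {H : Subgroup G // Nat.card H = p ^ a} = X.card := by
    rw [Nat.card_eq_fintype_card, Fintype.card_subtype]
  have h𝓛c : (𝓛.card) * (p - 1) + 1 = p ^ d := by
    have h1 := card_lines hA (⊤ : Subgroup (Du G p))
    have h2 : Nat.card {L : Subgroup (Du G p) // L ≤ ⊤ ∧ Nat.card L = p} = 𝓛.card := by
      rw [Nat.card_eq_fintype_card, Fintype.card_subtype]
      apply congrArg Finset.card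
      ext L
      simp [hmem𝓛]
    rw [h2, Nat.card_congr Subgroup.topEquiv.toEquiv, hd] at h1
    exact h1
  have hd2 : 2 ≤ d := by
    obtain ⟨L₁, L₂, h1, h2, h3⟩ := two_lines hGp hnc (p := p)
    have h4 : 2 ≤ 𝓛.card := by
      have : 1 < 𝓛.card := Finset.one_lt_card.2 ⟨L₁, (hmem𝓛 _).2 h1, L₂, (hmem𝓛 _).2 h2, h3⟩
      exact this
    by_contra hcon
    have h5 : d ≤ 1 := by omega
    have h6 : p ^ d ≤ p ^ 1 := Nat.pow_le_pow_right hpp.pos h5
    rw [← h𝓛c, pow_one] at h6
    have h7 := hpp.two_le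
    have h8 : 2 * (p - 1) ≤ 𝓛.card * (p - 1) := Nat.mul_le_mul_right _ h4
    omega
  obtain ⟨d', rfl⟩ : ∃ d', d = d' + 2 := ⟨d - 2, by omega⟩
  have hβ : 𝓣.card ≡ 1 [MOD p] := by
    have h1 := Cfsg.Agent.S3975.result (G := Du G p) p 2 hpp (by rw [hd]; exact pow_dvd_pow p (by omega))
    have h2 : Nat.card {H : Subgroup (Du G p) // Nat.card H = p ^ 2} = 𝓣.card := by
      rw [Nat.card_eq_fintype_card, Fintype.card_subtype]
    rwa [h2] at h1
  rw [hXc]
  -- the sums
  let sB : Subgroup G → ℕ := fun K => (X.filter (fun U => U ≤ K)).card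
  let c : Subgroup G → ℕ := fun U => (𝓛.filter (fun L => L ≤ annD U)).card
  let t : Subgroup G → ℕ := fun U => (𝓣.filter (fun T => T ≤ annD U)).card
  let q : ZMod (p ^ 2) := (p : ZMod (p ^ 2))
  have hsB : ∀ K : Subgroup G, sB K = Nat.card {H : Subgroup K // Nat.card H = p ^ a} := by
    intro K
    rw [card_transfer, Nat.card_eq_fintype_card, Fintype.card_subtype]
    apply congrArg Finset.card
    ext U
    simp only [Finset.mem_filter, hmemX, Finset.mem_univ, true_and]
    tauto
  -- E1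
  have hE1 : ∀ U ∈ X, (c U : ZMod (p ^ 2)) = 1 + q * (t U : ZMod (p ^ 2)) := by
    intro U hU
    have hUne : U ≠ ⊤ := by
      rintro rfl
      have h1 := (hmemX _).1 hU
      rw [Nat.card_congr Subgroup.topEquiv.toEquiv, hc] at h1
      have := Nat.pow_right_injective hpp.two_le h1
      omega
    have hK : IsPGroup p (annD U : Subgroup (Du G p)) := hAp.to_subgroup _
    obtain ⟨m, hm⟩ := IsPGroup.iff_card.1 hK
    have hcU : Nat.card {L : Subgroup (Du G p) // L ≤ annD U ∧ Nat.card L = p} = c U := by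
      rw [Nat.card_eq_fintype_card, Fintype.card_subtype]
      congr 1
      ext L
      simp only [Finset.mem_filter, hmem𝓛, Finset.mem_univ, true_and]
      tauto
    have h1 := card_lines hA (annD U)
    rw [hcU, hm] at h1
    cases m with
    | zero =>
      exfalso
      obtain ⟨M, hUM, hM⟩ := exists_index_p hGp hUne
      obtain ⟨L, hL, hLM⟩ := exists_line hGp hM
      have h2 : L ≤ annD U := by
        rw [← le_ann_iff, hLM]
        exact hUM
      have h3 := Subgroup.card_le_of_le h2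
      rw [hL, hm, pow_zero] at h3
      have := hpp.two_le
      omega
    | succ m =>
      cases m with
      | zero =>
        have h2 : c U = 1 := lines_one h1
        have h3 : t U = 0 := by
          show (𝓣.filter (fun T => T ≤ annD U)).card = 0
          rw [Finset.card_eq_zero, Finset.filter_eq_empty_iff]
          intro T hT hle
          have h4 := Subgroup.card_le_of_le hle
          rw [(hmem𝓣 T).1 hT, hm, zero_add, pow_one, pow_two] at h4
          have := hpp.two_le
          nlinarith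
        rw [h2, h3]
        simp
      | succ m =>
        have h2 : c U ≡ 1 + p [MOD p ^ 2] := lines_two (m := m) h1
        have h3 : t U ≡ 1 [MOD p] := by
          have h4 := Cfsg.Agent.S3975.result (G := annD U (p := p)) p 2 hpp (by
            rw [hm]
            exact pow_dvd_pow p (by omega))
          rw [card_transfer] at h4
          have h5 : Nat.card {H : Subgroup (Du G p) // H ≤ annD U ∧ Nat.card H = p ^ 2} = t U := by
            rw [Nat.card_eq_fintype_card, Fintype.card_subtype]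
            congr 1
            ext T
            simp only [Finset.mem_filter, hmem𝓣, Finset.mem_univ, true_and]
            tauto
          rwa [h5] at h4
        have h4 := q_mul_of_modEq h3
        have h5 := (ZMod.natCast_eq_natCast_iff _ _ _).2 h2
        rw [h5]
        show _ = 1 + ((p : ZMod (p ^ 2))) * (t U : ZMod (p ^ 2))
        rw [h4]
        push_cast
        rfl
  -- E2
  have hE2 : ∑ U ∈ X, c U = ∑ L ∈ 𝓛, sB (ann L) := by
    have := Finset.sum_card_bipartiteAbove_eq_sum_card_bipartiteBelow (s := X) (t := 𝓛)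
      (fun (U : Subgroup G) (L : Subgroup (Du G p)) => L ≤ annD U)
    refine Eq.trans ?_ (this.trans ?_)
    · rfl
    · refine Finset.sum_congr rfl (fun L _ => ?_)
      show (X.filter (fun U => L ≤ annD U)).card = (X.filter (fun U => U ≤ ann L)).card
      congr 1
      ext U
      simp only [Finset.mem_filter, le_ann_iff]
  have hE2' : ∑ U ∈ X, t U = ∑ T ∈ 𝓣, sB (ann T) := by
    have := Finset.sum_card_bipartiteAbove_eq_sum_card_bipartiteBelow (s := X) (t := 𝓣)
      (fun (U : Subgroup G) (T : Subgroup (Du G p)) => T ≤ annD U)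
    refine Eq.trans ?_ (this.trans ?_)
    · rfl
    · refine Finset.sum_congr rfl (fun T _ => ?_)
      show (X.filter (fun U => T ≤ annD U)).card = (X.filter (fun U => U ≤ ann T)).card
      congr 1
      ext U
      simp only [Finset.mem_filter, le_ann_iff]
  -- E4
  have hE4 : ∀ T ∈ 𝓣, q * (sB (ann T) : ZMod (p ^ 2)) = q := by
    intro T hT
    apply q_mul_of_modEq
    rw [hsB]
    exact Cfsg.Agent.S3975.result p a hpp (dvd_card_ann ((hmem𝓣 T).1 hT) hc (by omega))
  have hβR : q * (𝓣.card : ZMod (p ^ 2)) = q := q_mul_of_modEq hβ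
  have hT_sum : q * (∑ T ∈ 𝓣, (sB (ann T) : ZMod (p ^ 2))) = q := by
    rw [Finset.mul_sum, Finset.sum_congr rfl hE4, Finset.sum_const, nsmul_eq_mul, mul_comm]
    exact hβR
  have hL : ∑ L ∈ 𝓛, sB (ann L) = ∑ M ∈ Mx G p, Nat.card {H : Subgroup M // Nat.card H = p ^ a} := by
    refine Finset.sum_bij (fun L _ => ann L) ?_ ?_ ?_ ?_
    · intro L hL
      exact mem_Mx.2 (ann_index ((hmem𝓛 L).1 hL))
    · intro L hL L' hL' h
      exact line_unique ((hmem𝓛 L).1 hL) ((hmem𝓛 L').1 hL') h
    · intro U hU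
      obtain ⟨L, h3, h4⟩ := exists_line hGp (mem_Mx.1 hU)
      exact ⟨L, (hmem𝓛 _).2 h3, h4⟩
    · intro L _
      exact hsB _
  have hmain : (X.card : ZMod (p ^ 2)) + q = ((∑ M ∈ Mx G p, Nat.card {H : Subgroup M // Nat.card H = p ^ a} : ℕ) : ZMod (p ^ 2)) := by
    have h1 : (∑ U ∈ X, (c U : ZMod (p ^ 2))) = (X.card : ZMod (p ^ 2)) + q * ∑ U ∈ X, (t U : ZMod (p ^ 2)) := by
      rw [Finset.sum_congr rfl hE1, Finset.sum_add_distrib, Finset.sum_const, ← Finset.mul_sum, nsmul_eq_mul, mul_one]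
    have h2 : (∑ U ∈ X, (c U : ZMod (p ^ 2))) = ((∑ L ∈ 𝓛, sB (ann L) : ℕ) : ZMod (p ^ 2)) := by
      rw [← Nat.cast_sum, hE2]
    have h3 : (∑ U ∈ X, (t U : ZMod (p ^ 2))) = ∑ T ∈ 𝓣, (sB (ann T) : ZMod (p ^ 2)) := by
      rw [← Nat.cast_sum, ← Nat.cast_sum, hE2']
    rw [h1, h3, hT_sum, hL] at h2
    exact h2
  have hfin : ((X.card + p : ℕ) : ZMod (p ^ 2)) = ((∑ M ∈ Mx G p, Nat.card {H : Subgroup M // Nat.card H = p ^ a} : ℕ) : ZMod (p ^ 2)) := by
    push_cast
    push_cast at hmain
    exact hmain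
  exact (ZMod.natCast_eq_natCast_iff _ _ _).1 hfin

end Cfsg.Agent.Lib.GS1.Miller
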