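import Mathlib
import Cfsg.Agent.Lib.GS1.Miller1
import Cfsg.Agent.Lib.Cl.MaxClass
import Cfsg.Agent.Lib.Transfer.TwoMaxCyc

/-! Miller's theorem, second part: groups with a cyclic subgroup of index two. -/

set_option autoImplicit false

namespace Cfsg.Agent.Lib.GS1.Miller

open Subgroup

universe u

/-- `H` is noncyclic with commutator quotient of order four. -/
def BadG (H : Type u) [Group H] : Prop := ¬ IsCyclic H ∧ (commutator H).index = 4

section basics

variable {H : Type u} [Group H]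

theorem zpow_odd_gen {c : H} {k : ℕ} (hc : c ^ (2 ^ k) = 1) {w : ℤ} (hw : Odd w) : c ∈ zpowers (c ^ w) := by
  obtain ⟨s, t, hst⟩ : IsCoprime w ((2 : ℤ) ^ k) := by
    apply IsCoprime.pow_right
    obtain ⟨j, rfl⟩ := hw
    exact ⟨1, -j, by ring⟩
  refine ⟨s, ?_⟩
  show (c ^ w) ^ s = c
  have h1 : c ^ (((2 : ℤ) ^ k)) = 1 := by exact_mod_cast hc
  calc (c ^ w) ^ s = c ^ (s * w) := by rw [← zpow_mul, mul_comm]
    _ = c ^ (s * w + t * 2 ^ k) := by rw [zpow_add, zpow_mul' c t, h1, one_zpow, mul_one]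
    _ = c := by rw [hst, zpow_one]

theorem coset_form {a b : H} (ha : (zpowers a).index = 2) (hb : b ∉ zpowers a) (g : H) :
    (∃ i : ℤ, g = a ^ i) ∨ (∃ i : ℤ, g = a ^ i * b) := by
  by_cases hg : g ∈ zpowers a
  · obtain ⟨i, rfl⟩ := hg
    exact Or.inl ⟨i, rfl⟩
  · right
    have h1 : g * b⁻¹ ∈ zpowers a := by
      rw [Subgroup.mul_mem_iff_of_index_two ha, Subgroup.inv_mem_iff]
      tauto
    obtain ⟨i, hi⟩ := h1
    refine ⟨i, ?_⟩
    have hi' : a ^ i = g * b⁻¹ := hi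
    rw [hi']
    group

theorem conj_zpow_eq {a b : H} {s : ℤ} (hc : b * a * b⁻¹ = a ^ s) (i : ℤ) : b * a ^ i * b⁻¹ = a ^ (s * i) := by
  rw [zpow_mul, ← hc, conj_zpow]

theorem comm_eq {a b : H} {s : ℤ} (ha : (zpowers a).index = 2) (hb : b ∉ zpowers a) (hc : b * a * b⁻¹ = a ^ s) :
    commutator H = zpowers (a ^ (s - 1)) := by
  apply le_antisymm
  · rw [commutator_def, Subgroup.commutator_le]
    intro g _ h _
    rw [commutatorElement_def]
    rcases coset_form ha hb g with ⟨i, rfl⟩ | ⟨i, rfl⟩ <;> rcases coset_form ha hb h with ⟨j, rfl⟩ | ⟨j, rfl⟩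
    · have e : a ^ i * a ^ j * (a ^ i)⁻¹ * (a ^ j)⁻¹ = 1 := by group
      rw [e]
      exact one_mem _
    · have e : a ^ i * (a ^ j * b) * (a ^ i)⁻¹ * (a ^ j * b)⁻¹ = a ^ i * a ^ j * (b * a ^ (-i) * b⁻¹) * a ^ (-j) := by
        group
      rw [e, conj_zpow_eq hc]
      refine ⟨-i, ?_⟩
      show (a ^ (s - 1)) ^ (-i) = _
      rw [← zpow_mul, ← zpow_add, ← zpow_add, ← zpow_add]
      congr 1
      ring
    · have e : (a ^ i * b) * a ^ j * (a ^ i * b)⁻¹ * (a ^ j)⁻¹ = a ^ i * (b * a ^ j * b⁻¹) * a ^ (-i) * a ^ (-j) := by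
        group
      rw [e, conj_zpow_eq hc]
      refine ⟨j, ?_⟩
      show (a ^ (s - 1)) ^ j = _
      rw [← zpow_mul, ← zpow_add, ← zpow_add, ← zpow_add]
      congr 1
      ring
    · have e : (a ^ i * b) * (a ^ j * b) * (a ^ i * b)⁻¹ * (a ^ j * b)⁻¹ = a ^ i * (b * a ^ (j - i) * b⁻¹) * a ^ (-j) := by
        group
      rw [e, conj_zpow_eq hc]
      refine ⟨j - i, ?_⟩
      show (a ^ (s - 1)) ^ (j - i) = _
      rw [← zpow_mul, ← zpow_add, ← zpow_add]
      congr 1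
      ring
  · rw [zpowers_le]
    have e : a ^ (s - 1) = b * a * b⁻¹ * a⁻¹ := by
      rw [hc, zpow_sub_one]
    rw [e, ← commutatorElement_def]
    exact Subgroup.commutator_mem_commutator (mem_top _) (mem_top _)

theorem di_comm {a b : H} {t : ℤ} {k : ℕ} (ha : (zpowers a).index = 2) (hb : b ∉ zpowers a)
    (hc : b * a * b⁻¹ = a ^ (4 * t + 3)) (ho : a ^ (2 ^ k) = 1) : commutator H = zpowers (a ^ 2) := by
  rw [comm_eq ha hb hc]
  have e : a ^ (4 * t + 3 - 1) = (a ^ 2) ^ (2 * t + 1) := by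
    rw [← zpow_natCast a 2, ← zpow_mul]
    congr 1
    push_cast
    ring
  rw [e]
  apply le_antisymm
  · rw [zpowers_le]
    exact zpow_mem_zpowers _ _
  · rw [zpowers_le]
    apply zpow_odd_gen (k := k)
    · rw [← pow_mul, mul_comm, pow_mul, ho, one_pow]
    · exact ⟨t, rfl⟩

theorem commutator_le_bot_of_comm (h : ∀ x y : H, x * y = y * x) : commutator H = ⊥ := by
  rw [eq_bot_iff, commutator_def, Subgroup.commutator_le]
  intro g _ g' _
  rw [mem_bot, commutatorElement_eq_one_iff_mul_comm]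
  exact h _ _

theorem comm_of_cyclic (hC : IsCyclic H) (x y : H) : x * y = y * x := by
  obtain ⟨g, hg⟩ := hC
  obtain ⟨i, rfl⟩ := hg x
  obtain ⟨j, rfl⟩ := hg y
  show g ^ i * g ^ j = g ^ j * g ^ i
  rw [← zpow_add, ← zpow_add, add_comm]

theorem card_eq_two_mul [Finite H] {a : H} (ha : (zpowers a).index = 2) : Nat.card H = 2 * orderOf a := by
  have h := Subgroup.card_mul_index (zpowers a)
  rw [ha, Nat.card_zpowers] at h
  rw [← h, mul_comm]

theorem order_sq {a : H} {k : ℕ} (h : orderOf a = 2 ^ (k + 1)) : orderOf (a ^ 2) = 2 ^ k := by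
  rw [orderOf_pow_of_dvd (by norm_num) (by rw [h, pow_succ]; exact dvd_mul_left _ _), h, pow_succ]
  simp

theorem di_bad [Finite H] {a b : H} {t : ℤ} {k : ℕ} (ha : (zpowers a).index = 2) (hb : b ∉ zpowers a)
    (hc : b * a * b⁻¹ = a ^ (4 * t + 3)) (ho : orderOf a = 2 ^ (k + 2)) : BadG H := by
  have hpw : a ^ (2 ^ (k + 2)) = 1 := by rw [← ho]; exact pow_orderOf_eq_one a
  have hcomm := di_comm ha hb hc hpw
  have hcs := card_eq_two_mul ha
  have h2 : orderOf (a ^ 2) = 2 ^ (k + 1) := order_sq ho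
  constructor
  · intro hcyc
    have h3 := commutator_le_bot_of_comm (comm_of_cyclic hcyc)
    rw [hcomm] at h3
    have h4 : Nat.card (zpowers (a ^ 2)) = 1 := by rw [h3]; exact Subgroup.card_bot
    rw [Nat.card_zpowers, h2] at h4
    have : 1 < 2 ^ (k + 1) := Nat.one_lt_pow (by omega) (by norm_num)
    omega
  · rw [hcomm]
    have h5 := Subgroup.card_mul_index (zpowers (a ^ 2))
    rw [Nat.card_zpowers, h2, hcs, ho] at h5
    have h6 : 2 * 2 ^ (k + 2) = 2 ^ (k + 1) * 4 := by ring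
    rw [h6] at h5
    exact Nat.eq_of_mul_eq_mul_left (by positivity) h5

end basics

section packs

variable {H : Type u} [Group H] [Finite H]

theorem bad_pack {n : ℕ} (hH : Nat.card H = 2 ^ n) (hn : 3 ≤ n) (hbad : BadG H) :
    ∃ (a b : H) (t : ℤ), orderOf a = 2 ^ (n - 1) ∧ (zpowers a).index = 2 ∧ b ∉ zpowers a ∧
      b * a * b⁻¹ = a ^ (4 * t + 3) ∧ a ^ (2 * (4 * t + 4)) = 1 ∧ (b ^ 2 = 1 ∨ b ^ 2 = a ^ (2 ^ (n - 2))) := by
  have hp : IsPGroup 2 H := IsPGroup.of_card hH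
  obtain ⟨c, hc⟩ := Cfsg.Agent.Lib.Cl.exists_cyclic_index_two _ H rfl hp hbad.2
  have hn8 : 8 ≤ 2 ^ n := by
    calc 8 = 2 ^ 3 := by norm_num
      _ ≤ 2 ^ n := Nat.pow_le_pow_right (by norm_num) hn
  have hna : ∃ x y : H, x * y ≠ y * x := by
    by_contra hcon
    push Not at hcon
    have h1 := commutator_le_bot_of_comm hcon
    have h2 := hbad.2
    rw [h1, Subgroup.index_bot, hH] at h2
    omega
  obtain ⟨a, b, ho, hi, hb, alts⟩ := Cfsg.Agent.Lib.Transfer.classify_two_cyc_index n hn hH (zpowers c)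
    inferInstance hc hna
  have ho' : a ^ (2 ^ (n - 1)) = 1 := by rw [← ho]; exact pow_orderOf_eq_one a
  rcases alts with ⟨h1, h2⟩ | ⟨h1, h2⟩ | ⟨h3, h1, h2⟩ | ⟨h3, h1, h2⟩
  · refine ⟨a, b, -1, ho, hi, hb, ?_, by norm_num, Or.inl h1⟩
    rw [h2]
    norm_num
  · refine ⟨a, b, -1, ho, hi, hb, ?_, by norm_num, Or.inr h1⟩
    rw [h2]
    norm_num
  · exfalso
    obtain ⟨m, rfl⟩ : ∃ m, n = m + 4 := ⟨n - 4, by omega⟩
    have e1 : m + 4 - 2 = m + 2 := by omega
    have e2 : m + 4 - 1 = m + 3 := by omega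
    rw [e1] at h2
    rw [e2] at ho
    have hs : b * a * b⁻¹ = a ^ ((1 + 2 ^ (m + 2) : ℤ)) := by
      rw [h2, ← zpow_natCast]
      congr 1
    have h4 := comm_eq hi hb hs
    have e3 : a ^ ((1 + 2 ^ (m + 2) : ℤ) - 1) = a ^ (2 ^ (m + 2)) := by
      rw [← zpow_natCast]
      congr 1
      push_cast
      ring
    rw [e3] at h4
    have h5 : orderOf (a ^ (2 ^ (m + 2))) = 2 := by
      rw [orderOf_pow_of_dvd (by positivity) (by rw [ho]; exact pow_dvd_pow 2 (by omega)), ho, pow_succ]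
      have : 0 < 2 ^ (m + 2) := by positivity
      exact Nat.mul_div_cancel_left 2 this
    have h6 := hbad.2
    rw [h4] at h6
    have h7 := Subgroup.card_mul_index (zpowers (a ^ (2 ^ (m + 2))))
    rw [Nat.card_zpowers, h5, h6, hH] at h7
    have h8 : 16 ≤ 2 ^ (m + 4) := by
      calc 16 = 2 ^ 4 := by norm_num
        _ ≤ 2 ^ (m + 4) := Nat.pow_le_pow_right (by norm_num) (by omega)
    have h9 : 2 ^ (m + 4) = 2 ^ m * 16 := by ring
    have h10 : 1 ≤ 2 ^ m := Nat.one_le_two_pow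
    omega
  · obtain ⟨m, rfl⟩ : ∃ m, n = m + 4 := ⟨n - 4, by omega⟩
    have e1 : m + 4 - 2 = m + 2 := by omega
    have e2 : m + 4 - 1 = m + 3 := by omega
    rw [e1] at h2
    rw [e2] at ho ho'
    refine ⟨a, b, 2 ^ m - 1, ho, hi, hb, ?_, ?_, Or.inl h1⟩
    · rw [h2, ← zpow_natCast]
      congr 1
      have h3 : 1 ≤ 2 ^ (m + 2) := Nat.one_le_two_pow
      push_cast [h3]
      ring
    · have e : (2 * (4 * ((2 : ℤ) ^ m - 1) + 4)) = ((2 ^ (m + 3) : ℕ) : ℤ) := by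
        push_cast
        ring
      rw [e, zpow_natCast, ho']

theorem good_pack_nonab {n : ℕ} (hH : Nat.card H = 2 ^ n) (hn : 3 ≤ n) (hnb : (commutator H).index ≠ 4)
    (C : Subgroup H) (hC : IsCyclic C) (hCi : C.index = 2) (hna : ∃ x y : H, x * y ≠ y * x) :
    ∃ (a b : H) (s w : ℤ), orderOf a = 2 ^ (n - 1) ∧ (zpowers a).index = 2 ∧ b ∉ zpowers a ∧
      b ^ 2 = 1 ∧ b * a * b⁻¹ = a ^ s ∧ a ^ (2 * (s - 1)) = 1 ∧ Odd w ∧ 1 + s = 2 * w := by
  obtain ⟨a, b, ho, hi, hb, alts⟩ := Cfsg.Agent.Lib.Transfer.classify_two_cyc_index n hn hH C hC hCi hna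
  have ho' : a ^ (2 ^ (n - 1)) = 1 := by rw [← ho]; exact pow_orderOf_eq_one a
  obtain ⟨k, hk⟩ : ∃ k, n - 1 = k + 2 := ⟨n - 3, by omega⟩
  rw [hk] at ho ho'
  rcases alts with ⟨h1, h2⟩ | ⟨h1, h2⟩ | ⟨h3, h1, h2⟩ | ⟨h3, h1, h2⟩
  · exfalso
    apply hnb
    refine (di_bad (t := -1) hi hb ?_ ho).2
    rw [h2]
    norm_num
  · exfalso
    apply hnb
    refine (di_bad (t := -1) hi hb ?_ ho).2
    rw [h2]
    norm_num
  · obtain ⟨m, rfl⟩ : ∃ m, n = m + 4 := ⟨n - 4, by omega⟩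
    have e1 : m + 4 - 2 = m + 2 := by omega
    have e2 : k + 2 = m + 3 := by omega
    rw [e1] at h2
    rw [e2] at ho ho'
    refine ⟨a, b, 1 + 2 ^ (m + 2), 1 + 2 ^ (m + 1), ?_, hi, hb, h1, ?_, ?_, ?_, ?_⟩
    · rw [hk, e2]
      exact ho
    · rw [h2, ← zpow_natCast]
      congr 1
    · have e : (2 * ((1 + (2 : ℤ) ^ (m + 2)) - 1)) = ((2 ^ (m + 3) : ℕ) : ℤ) := by
        push_cast
        ring
      rw [e, zpow_natCast, ho']
    · refine ⟨2 ^ m, ?_⟩
      ring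
    · ring
  · exfalso
    apply hnb
    obtain ⟨m, rfl⟩ : ∃ m, n = m + 4 := ⟨n - 4, by omega⟩
    have e1 : m + 4 - 2 = m + 2 := by omega
    rw [e1] at h2
    refine (di_bad (t := 2 ^ m - 1) hi hb ?_ ho).2
    rw [h2, ← zpow_natCast]
    congr 1
    have h3 : 1 ≤ 2 ^ (m + 2) := Nat.one_le_two_pow
    push_cast [h3]
    ring

theorem good_pack_ab {n : ℕ} (hH : Nat.card H = 2 ^ n) (hn : 2 ≤ n) (hab : ∀ x y : H, x * y = y * x)
    (hnc : ¬ IsCyclic H) (C : Subgroup H) (hC : IsCyclic C) (hCi : C.index = 2) :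
    ∃ (a b : H) (s w : ℤ), orderOf a = 2 ^ (n - 1) ∧ (zpowers a).index = 2 ∧ b ∉ zpowers a ∧
      b ^ 2 = 1 ∧ b * a * b⁻¹ = a ^ s ∧ a ^ (2 * (s - 1)) = 1 ∧ Odd w ∧ 1 + s = 2 * w := by
  obtain ⟨a, rfl⟩ := (Subgroup.isCyclic_iff_exists_zpowers_eq_top C).1 hC
  have hcard := card_eq_two_mul hCi
  have ho : orderOf a = 2 ^ (n - 1) := by
    rw [hH] at hcard
    have e : 2 ^ n = 2 * 2 ^ (n - 1) := by
      rw [← pow_succ']
      congr 1
      omega
    rw [e] at hcard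
    exact (Nat.eq_of_mul_eq_mul_left (by norm_num) hcard).symm
  have ho' : a ^ (2 ^ (n - 1)) = 1 := by rw [← ho]; exact pow_orderOf_eq_one a
  obtain ⟨g, hg⟩ : ∃ g, g ∉ zpowers a := by
    by_contra hcon
    push Not at hcon
    apply hnc
    exact ⟨⟨a, hcon⟩⟩
  have hsq : g ^ 2 ∈ zpowers a := Subgroup.sq_mem_of_index_two hCi g
  obtain ⟨j, hj⟩ := hsq
  have hj' : a ^ j = g ^ 2 := hj
  have hev : Even j := by
    by_contra hodd
    rw [Int.not_even_iff_odd] at hodd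
    have h1 := zpow_odd_gen ho' hodd
    rw [hj'] at h1
    have h2 : a ∈ zpowers g := by
      have h3 : zpowers (g ^ 2) ≤ zpowers g := by
        rw [zpowers_le]
        exact npow_mem_zpowers g 2
      exact h3 h1
    apply hnc
    refine ⟨⟨g, fun y => ?_⟩⟩
    by_cases hy : y ∈ zpowers a
    · obtain ⟨i, rfl⟩ := hy
      exact (zpowers g).zpow_mem h2 _
    · have h4 : y * g⁻¹ ∈ zpowers a := by
        rw [Subgroup.mul_mem_iff_of_index_two hCi, Subgroup.inv_mem_iff]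
        tauto
      obtain ⟨i, hi⟩ := h4
      have h5 : y = a ^ i * g := by
        have hi' : a ^ i = y * g⁻¹ := hi
        rw [hi']
        group
      rw [h5]
      exact mul_mem ((zpowers g).zpow_mem h2 _) (mem_zpowers g)
  obtain ⟨i, rfl⟩ := hev
  have hb : g * a ^ (-i) ∉ zpowers a := by
    intro h
    apply hg
    have h1 : g = (g * a ^ (-i)) * a ^ i := by group
    rw [h1]
    exact mul_mem h (zpow_mem_zpowers a i)
  refine ⟨a, g * a ^ (-i), 1, 1, ho, hCi, hb, ?_, ?_, by simp, odd_one, by ring⟩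
  · have h1 : (g * a ^ (-i)) ^ 2 = g ^ 2 * a ^ (-i) * a ^ (-i) := by
      rw [pow_two, pow_two]
      have := hab (a ^ (-i)) g
      calc g * a ^ (-i) * (g * a ^ (-i)) = g * (a ^ (-i) * g) * a ^ (-i) := by group
        _ = g * (g * a ^ (-i)) * a ^ (-i) := by rw [this]
        _ = _ := by group
    rw [h1, ← hj']
    group
  · rw [zpow_one, hab (g * a ^ (-i)) a, mul_assoc, mul_inv_cancel, mul_one]

end packs

section sub

variable {G : Type u} [Group G] [Finite G]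

/-- Membership transfer for index two in a subgroup. -/
theorem sub_idx (M : Subgroup G) {u : G} (hu : u ∈ M) (hcard : Nat.card M = 2 * orderOf u) :
    (zpowers (⟨u, hu⟩ : M)).index = 2 := by
  have h := Subgroup.card_mul_index (zpowers (⟨u, hu⟩ : M))
  rw [Nat.card_zpowers, Subgroup.orderOf_mk, hcard, mul_comm] at h
  have h0 : 0 < orderOf u := orderOf_pos u
  exact Nat.eq_of_mul_eq_mul_right h0 h

theorem sub_notin (M : Subgroup G) {u v : G} (hu : u ∈ M) (hv : v ∈ M) (hvu : v ∉ zpowers u) :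
    (⟨v, hv⟩ : M) ∉ zpowers (⟨u, hu⟩ : M) := by
  rintro ⟨i, hi⟩
  apply hvu
  refine ⟨i, ?_⟩
  have := congrArg (Subtype.val) hi
  simpa using this

theorem sub_bad (M : Subgroup G) {u v : G} {t : ℤ} {k : ℕ} (hu : u ∈ M) (hv : v ∈ M)
    (hcard : Nat.card M = 2 * orderOf u) (hvu : v ∉ zpowers u) (hc : v * u * v⁻¹ = u ^ (4 * t + 3))
    (ho : orderOf u = 2 ^ (k + 2)) : BadG M := by
  have h1 := sub_idx M hu hcard
  have h2 := sub_notin M hu hv hvu
  have h3 : (⟨v, hv⟩ : M) * ⟨u, hu⟩ * (⟨v, hv⟩ : M)⁻¹ = (⟨u, hu⟩ : M) ^ (4 * t + 3) := by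
    apply Subtype.ext
    simpa using hc
  have h4 : orderOf (⟨u, hu⟩ : M) = 2 ^ (k + 2) := by rw [Subgroup.orderOf_mk, ho]
  exact di_bad h1 h2 h3 h4

theorem sub_comm_bot (M : Subgroup G) {u v : G} {s : ℤ} (hu : u ∈ M) (hv : v ∈ M)
    (hcard : Nat.card M = 2 * orderOf u) (hvu : v ∉ zpowers u) (hc : v * u * v⁻¹ = u ^ s)
    (h1 : u ^ (s - 1) = 1) : commutator M = ⊥ := by
  have h2 := sub_idx M hu hcard
  have h3 := sub_notin M hu hv hvu
  have h4 : (⟨v, hv⟩ : M) * ⟨u, hu⟩ * (⟨v, hv⟩ : M)⁻¹ = (⟨u, hu⟩ : M) ^ s := by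
    apply Subtype.ext
    simpa using hc
  rw [comm_eq h2 h3 h4]
  have : (⟨u, hu⟩ : M) ^ (s - 1) = 1 := by
    apply Subtype.ext
    simpa using h1
  rw [this, zpowers_one_eq_bot]

theorem nc_two_inv (M : Subgroup G) {u w : G} (hu : u ∈ M) (hw : w ∈ M) (hu2 : u ^ 2 = 1) (hw2 : w ^ 2 = 1)
    (hu1 : u ≠ 1) (hw1 : w ≠ 1) (huw : u ≠ w) : ¬ IsCyclic M := by
  intro hcyc
  have hu' : orderOf (⟨u, hu⟩ : M) = 2 := by
    rw [Subgroup.orderOf_mk]
    exact orderOf_eq_prime hu2 hu1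
  have hw' : orderOf (⟨w, hw⟩ : M) = 2 := by
    rw [Subgroup.orderOf_mk]
    exact orderOf_eq_prime hw2 hw1
  have h1 : zpowers (⟨u, hu⟩ : M) = zpowers (⟨w, hw⟩ : M) := by
    apply Cfsg.Agent.S3975.cyclic_unique_subgroup
    rw [Nat.card_zpowers, Nat.card_zpowers, hu', hw']
  have h2 : (⟨u, hu⟩ : M) ∈ zpowers (⟨w, hw⟩ : M) := by
    rw [← h1]
    exact mem_zpowers _
  obtain ⟨i, hi⟩ := h2
  have hi' : w ^ i = u := by
    have := congrArg (Subtype.val) hi
    simpa using this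
  rcases Int.even_or_odd' i with ⟨j, rfl | rfl⟩
  · apply hu1
    rw [← hi', zpow_mul]
    have : w ^ (2 : ℤ) = 1 := by exact_mod_cast hw2
    rw [this, one_zpow]
  · apply huw
    rw [← hi', zpow_add, zpow_mul]
    have : w ^ (2 : ℤ) = 1 := by exact_mod_cast hw2
    rw [this, one_zpow, one_mul, zpow_one]

open scoped Classical in
/-- The three maximal subgroups of a noncyclic `2`-group with a cyclic maximal subgroup. -/
theorem three_max {n : ℕ} (hc : Nat.card G = 2 ^ (n + 1)) (hn : 1 ≤ n) (hnc : ¬ IsCyclic G) {a b : G}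
    (ha : (zpowers a).index = 2) (hb : b ∉ zpowers a) :
    haveI : Fact (Nat.Prime 2) := ⟨Nat.prime_two⟩
    Mx G 2 = {zpowers a, zpowers (a ^ 2) ⊔ zpowers b, zpowers (a ^ 2) ⊔ zpowers (a * b)} ∧
      zpowers a ≠ zpowers (a ^ 2) ⊔ zpowers b ∧ zpowers a ≠ zpowers (a ^ 2) ⊔ zpowers (a * b) ∧
      zpowers (a ^ 2) ⊔ zpowers b ≠ zpowers (a ^ 2) ⊔ zpowers (a * b) := by
  haveI : Fact (Nat.Prime 2) := ⟨Nat.prime_two⟩
  have hcs := card_eq_two_mul ha
  have hoa : orderOf a = 2 ^ n := by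
    rw [hc, pow_succ'] at hcs
    exact (Nat.eq_of_mul_eq_mul_left (by norm_num) hcs).symm
  obtain ⟨m, rfl⟩ : ∃ m, n = m + 1 := ⟨n - 1, by omega⟩
  have ho2 : orderOf (a ^ 2) = 2 ^ m := order_sq hoa
  have hp : IsPGroup 2 G := IsPGroup.of_card hc
  have hM2 : ∀ {M : Subgroup G}, M.index = 2 → Nat.card M = 2 ^ (m + 1) := by
    intro M hM
    have h := Subgroup.card_mul_index M
    rw [hM, hc, pow_succ] at h
    exact Nat.eq_of_mul_eq_mul_right (by norm_num) h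
  have hsup : ∀ {M : Subgroup G} {v : G}, M.index = 2 → a ^ 2 ∈ M → v ∈ M → v ∉ zpowers a →
      zpowers (a ^ 2) ⊔ zpowers v = M := by
    intro M v hM h1 h2 h3
    apply Subgroup.eq_of_le_of_card_ge (sup_le (zpowers_le.2 h1) (zpowers_le.2 h2))
    rw [hM2 hM]
    have hK : zpowers (a ^ 2) ≠ zpowers (a ^ 2) ⊔ zpowers v := by
      intro h
      apply h3
      have h4 : v ∈ zpowers (a ^ 2) := by
        rw [h]
        exact mem_sup_right (mem_zpowers v)
      have h5 : zpowers (a ^ 2) ≤ zpowers a := zpowers_le.2 (npow_mem_zpowers a 2)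
      exact h5 h4
    have h6 := Cfsg.Agent.Lib.ClassSizes.KulSylow.le_pow_card (p := 2)
      (hp.to_subgroup (zpowers (a ^ 2) ⊔ zpowers v)) le_sup_left hK
    rw [Nat.card_zpowers, ho2] at h6
    rw [pow_succ']
    exact h6
  have hsub : Mx G 2 ⊆ {zpowers a, zpowers (a ^ 2) ⊔ zpowers b, zpowers (a ^ 2) ⊔ zpowers (a * b)} := by
    intro M hM
    have hMi : M.index = 2 := mem_Mx.1 hM
    simp only [Finset.mem_insert, Finset.mem_singleton]
    have hsq : a ^ 2 ∈ M := Subgroup.sq_mem_of_index_two hMi a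
    by_cases haM : a ∈ M
    · left
      symm
      apply Subgroup.eq_of_le_of_card_ge (zpowers_le.2 haM)
      rw [hM2 hMi, Nat.card_zpowers, hoa]
    · right
      by_cases hbM : b ∈ M
      · left
        exact (hsup hMi hsq hbM hb).symm
      · right
        have h1 : a * b ∈ M := by
          rw [Subgroup.mul_mem_iff_of_index_two hMi]
          tauto
        have h2 : a * b ∉ zpowers a := by
          intro h
          apply hb
          have h3 : b = a⁻¹ * (a * b) := by group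
          rw [h3]
          exact mul_mem (inv_mem (mem_zpowers a)) h
        exact (hsup hMi hsq h1 h2).symm
  have h3 : 3 ≤ (Mx G 2).card := by
    have h1 := Mx_card_modEq (p := 2) hc hnc
    have h2 : (Mx G 2).card % 4 = 3 := h1
    omega
  have h4 : ({zpowers a, zpowers (a ^ 2) ⊔ zpowers b, zpowers (a ^ 2) ⊔ zpowers (a * b)} : Finset (Subgroup G)).card ≤ 3 :=
    Finset.card_le_three
  have h5 := Finset.eq_of_subset_of_card_le hsub (h4.trans h3)
  refine ⟨h5, ?_, ?_, ?_⟩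
  · intro h
    rw [h5, ← h] at h3
    have h6 : ({zpowers a, zpowers a, zpowers (a ^ 2) ⊔ zpowers (a * b)} : Finset (Subgroup G)).card ≤ 2 := by
      rw [Finset.insert_eq_self.2 (by simp)]
      exact Finset.card_le_two
    omega
  · intro h
    rw [h5, ← h] at h3
    have h6 : ({zpowers a, zpowers (a ^ 2) ⊔ zpowers b, zpowers a} : Finset (Subgroup G)).card ≤ 2 := by
      rw [Finset.pair_comm (zpowers (a ^ 2) ⊔ zpowers b) (zpowers a)]
      rw [Finset.insert_eq_self.2 (by simp)]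
      exact Finset.card_le_two
    omega
  · intro h
    rw [h5, ← h] at h3
    have h6 : ({zpowers a, zpowers (a ^ 2) ⊔ zpowers b, zpowers (a ^ 2) ⊔ zpowers b} : Finset (Subgroup G)).card ≤ 2 := by
      rw [Finset.pair_eq_singleton]
      exact Finset.card_le_two
    omega

end sub

end Cfsg.Agent.Lib.GS1.Miller
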